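import Groth.Agent.Lib.EtBCQ24.Ses
import Groth.Agent.Lib.EtAcyc24.BCTransfer

/-!
# Base change in the first uncertain degree
-/

set_option autoImplicit false
set_option linter.style.haveILetI false
set_option linter.unusedSectionVars false
set_option backward.isDefEq.respectTransparency false
set_option backward.isDefEq.respectTransparency.types false

universe u

open CategoryTheory CategoryTheory.Limits AlgebraicGeometry HomologicalComplex Opposite

namespace Groth.Agent.EtBCQ24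

variable {X : Scheme.{u}}

lemma nsmul_app (n : ℕ) {F G : EtCoh.Ab X} (a : F ⟶ G) (U : X.Etale) (s : EtCoh.sect F U) :
    (n • a).hom.app (op U) s = n • a.hom.app (op U) s := by
  induction n with
  | zero => rw [zero_nsmul, zero_nsmul]; rfl
  | succ k ih => rw [succ_nsmul, succ_nsmul, ← ih]; rfl

lemma nsmul_id_of_killedBy {n : ℕ} {F : EtCoh.Ab X} (h : EtCoh.KilledBy n F) : n • 𝟙 F = 0 := by
  refine Sheaf.hom_ext (NatTrans.ext (funext fun U => ConcreteCategory.hom_ext _ _ fun s => ?_))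
  obtain ⟨U⟩ := U
  exact (nsmul_app n (𝟙 F) U s).trans (h U s)

lemma killedBy_of_nsmul {n : ℕ} {F : EtCoh.Ab X} (h : n • 𝟙 F = 0) : EtCoh.KilledBy n F := fun U s => by
  have := nsmul_app n (𝟙 F) U s
  rw [h] at this
  exact this.symm

section Unit

variable {Y : Scheme.{u}}

open Groth.Agent.EtStalk Groth.Agent.EtAcyc24

/-- The unit is a monomorphism for a surjective morphism. -/
theorem mono_unit_surj (g : X ⟶ Y) (hg : Function.Surjective g.base) (F : EtCoh.Ab Y) :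
    Mono ((EtCoh.pullPushAdj g).unit.app F) := by
  let v : F ⟶ (EtCoh.push g).obj ((EtCoh.pull g).obj F) := (EtCoh.pullPushAdj g).unit.app F
  show Mono v
  refine Preadditive.mono_of_isZero_kernel v ?_
  rw [isZero_iff_stalk]
  intro Θ _ _ ξ
  obtain ⟨x, hx⟩ := hg (ξ default)
  let Ω := SeparableClosure (X.residueField x)
  haveI : IsSepClosed (IsLocalRing.ResidueField Ω) := EtDesc24.isSepClosed_residueField _
  haveI : (EtCoh.pull g).Additive := (EtCoh.pullPushAdj g).left_adjoint_additive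
  haveI : IsSplitMono ((EtCoh.pull g).map v) :=
    ⟨⟨⟨(EtCoh.pullPushAdj g).counit.app _, (EtCoh.pullPushAdj g).left_triangle_components F⟩⟩⟩
  have hk : IsZero ((EtCoh.pull g).obj (kernel v)) :=
    IsZero.of_iso (isZero_kernel_of_mono _) (PreservesKernel.iso (EtCoh.pull g) v)
  let η := closedPt Ω ≫ Embed24.pt X x Ω
  have h0 : Subsingleton ((EtCoh.stalk (η ≫ g)).obj (kernel v)) := by
    haveI := AddCommGrpCat.subsingleton_of_isZero ((isZero_iff_stalk _).1 hk _ η)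
    exact (Equiv.ofBijective _
      (ConcreteCategory.bijective_of_isIso (stalkPull g η (kernel v)))).subsingleton
  suffices e : ξ default = (η ≫ g) default by
    have hsur := Constr24.surjective_stalk_congr (0 : kernel v ⟶ kernel v) ξ (η ≫ g) e fun q => ⟨q, @Subsingleton.elim _ h0 _ _⟩
    have : Subsingleton ((EtCoh.stalk ξ).obj (kernel v)) := subsingleton_of_forall_eq 0 fun q => by
      obtain ⟨r, rfl⟩ := hsur q
      rw [Functor.map_zero]
      rfl
    exact AddCommGrpCat.isZero_of_subsingleton _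
  rw [Scheme.Hom.comp_apply, Scheme.Hom.comp_apply, Embed24.pt_apply]
  exact hx.symm

end Unit

/-- A sheaf killed by `n` embeds into a flasque one killed by `n`, on any scheme. -/
theorem exists_acyc_embed (F : EtCoh.Ab X) {a : ℕ} (h0 : a • 𝟙 F = 0) :
    ∃ (J : EtCoh.Ab X) (u : F ⟶ J), Mono u ∧ EtFlasque24.Acyc J ∧ a • 𝟙 J = 0 := by
  let Ω : X → Type u := fun x => SeparableClosure (X.residueField x)
  let π : (∐ fun x => Spec (CommRingCat.of (Ω x))) ⟶ X := Sigma.desc fun x => Embed24.pt X x (Ω x)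
  refine ⟨(EtCoh.push π).obj ((EtCoh.pull π).obj F), (EtCoh.pullPushAdj π).unit.app F,
    mono_unit_surj π (fun x => ?_) F, EtFlasque24.acyc_push π (Embed24.acyc_pts Ω _), ?_⟩
  · haveI : IsSepClosed (IsLocalRing.ResidueField (Ω x)) := EtDesc24.isSepClosed_residueField _
    refine ⟨(EtStalk.closedPt (Ω x) ≫ Embed24.ptsι Ω x) default, ?_⟩
    rw [← Scheme.Hom.comp_apply, Category.assoc, Scheme.Hom.comp_apply]
    exact (congrArg (fun r : Spec (CommRingCat.of (Ω x)) ⟶ X => r (EtStalk.closedPt (Ω x) default))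
      (Sigma.ι_desc _ x)).trans (Embed24.pt_apply X x (Ω x) _)
  · haveI : (EtCoh.push π).Additive := (EtCoh.pullPushAdj π).right_adjoint_additive
    rw [← CategoryTheory.Functor.map_id, ← Functor.map_nsmul, EtAcyc24.nsmul_id_pull π h0, Functor.map_zero]

variable {S X' S' : Scheme.{u}} (f : X ⟶ S) (g : S' ⟶ S) (f' : X' ⟶ S') (g' : X' ⟶ X)
  (w : g' ≫ f = f' ≫ g)

local notation "cx" F => Functor.mapHomologicalComplex F (ComplexShape.up ℕ)

theorem mono_bcQ_iff (M : EtCoh.Ab X) (I : InjectiveResolution M) (J : InjectiveResolution ((EtCoh.pull g').obj M))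
    (χ : (cx (EtCoh.pull g')).obj I.cocomplex ⟶ J.cocomplex)
    (hχ : (EtCoh.pull g').map (I.ι.f 0) ≫ χ.f 0 = J.ι.f 0) (q : ℕ) :
    Mono (EtBC.bcQ f g f' g' w q M) ↔ Mono (homologyMap (ψ f g f' g' w _ _ χ) q) := by
  refine (MorphismProperty.monomorphisms _).arrow_mk_iso_iff ?_
  refine Arrow.isoMk ((EtCoh.pull g).mapIso (I.isoRightDerivedObj (EtCoh.push f) q) ≪≫
      (((((cx (EtCoh.push f)).obj I.cocomplex).sc q).mapHomologyIso (EtCoh.pull g))).symm)
    (J.isoRightDerivedObj (EtCoh.push f') q) ?_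
  show ((EtCoh.pull g).map (I.isoRightDerivedObj (EtCoh.push f) q).hom ≫
      ((((cx (EtCoh.push f)).obj I.cocomplex).sc q).mapHomologyIso (EtCoh.pull g)).inv) ≫
      homologyMap (ψ f g f' g' w _ _ χ) q = EtBC.bcQ f g f' g' w q M ≫ (J.isoRightDerivedObj (EtCoh.push f') q).hom
  rw [bcQ_eq f g f' g' w M I J χ hχ q]
  simp

section SES

variable {S₀ : ShortComplex (EtCoh.Ab X)} (T : RDer.SESRes S₀) (T' : RDer.SESRes (S₀.map (EtCoh.pull g')))
  (χ : T.cx.map (cx (EtCoh.pull g')) ⟶ T'.cx)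

/-- The direct images of the resolutions, pulled back. -/
noncomputable abbrev lowerSeq : ShortComplex (CochainComplex (EtCoh.Ab S') ℕ) :=
  (T.cx.map (cx (EtCoh.push f))).map (cx (EtCoh.pull g))

/-- The direct images of the resolutions of the inverse images. -/
noncomputable abbrev upperSeq : ShortComplex (CochainComplex (EtCoh.Ab S') ℕ) :=
  T'.cx.map (cx (EtCoh.push f'))

theorem lowerSeq_shortExact : (lowerSeq f g T).ShortExact :=
  haveI := (T.map_shortExact (EtCoh.push f)).mono_f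
  shortExact_of_degreewise_shortExact _ fun n =>
    (((T.splitting n).map (EtCoh.push f)).map (EtCoh.pull g)).shortExact

theorem upperSeq_shortExact : (upperSeq f' g' T').ShortExact :=
  T'.map_shortExact (EtCoh.push f')

/-- The morphism of short exact sequences of complexes given by base change. -/
noncomputable def ψSeq : lowerSeq f g T ⟶ upperSeq f' g' T' :=
  ShortComplex.homMk (ψ f g f' g' w T.I₁.cocomplex T'.I₁.cocomplex χ.τ₁)
    (ψ f g f' g' w T.I₂.cocomplex T'.I₂.cocomplex χ.τ₂)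
    (ψ f g f' g' w T.I₃.cocomplex T'.I₃.cocomplex χ.τ₃)
    (ψ_natural f g f' g' w χ.τ₁ χ.τ₂ T.f T'.f χ.comm₁₂.symm).symm
    (ψ_natural f g f' g' w χ.τ₂ χ.τ₃ T.g T'.g χ.comm₂₃.symm).symm

variable (hχ₁ : (EtCoh.pull g').map (T.I₁.ι.f 0) ≫ χ.τ₁.f 0 = T'.I₁.ι.f 0)
  (hχ₂ : (EtCoh.pull g').map (T.I₂.ι.f 0) ≫ χ.τ₂.f 0 = T'.I₂.ι.f 0)
  (hχ₃ : (EtCoh.pull g').map (T.I₃.ι.f 0) ≫ χ.τ₃.f 0 = T'.I₃.ι.f 0)

include hχ₁ hχ₂ hχ₃ in
theorem mono_of_acyclic (p : ℕ) (h₂ : IsIso (EtBC.bcQ f g f' g' w p S₀.X₂))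
    (h₃ : IsIso (EtBC.bcQ f g f' g' w p S₀.X₃)) (h0 : IsZero ((EtCoh.Rpush f (p + 1)).obj S₀.X₂)) :
    Mono (EtBC.bcQ f g f' g' w (p + 1) S₀.X₁) := by
  rw [mono_bcQ_iff f g f' g' w S₀.X₁ T.I₁ T'.I₁ χ.τ₁ hχ₁]
  haveI := (isIso_bcQ_iff f g f' g' w S₀.X₂ T.I₂ T'.I₂ χ.τ₂ hχ₂ p).1 h₂
  haveI := (isIso_bcQ_iff f g f' g' w S₀.X₃ T.I₃ T'.I₃ χ.τ₃ hχ₃ p).1 h₃
  have hz : IsZero (((lowerSeq f g T).X₂).homology (p + 1)) :=
    (Functor.map_isZero (EtCoh.pull g) (h0.of_iso (T.I₂.isoRightDerivedObj (EtCoh.push f) (p + 1)).symm)).of_iso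
      ((((cx (EtCoh.push f)).obj T.I₂.cocomplex).sc (p + 1)).mapHomologyIso (EtCoh.pull g))
  apply Abelian.mono_of_epi_of_mono_of_mono
    ((ComposableArrows.δ₀Functor ⋙ ComposableArrows.δlastFunctor).map
      (HomologySequence.mapComposableArrows₅ (ψSeq f g f' g' w T T' χ) (lowerSeq_shortExact f g T)
        (upperSeq_shortExact f' g' T') p (p + 1) rfl))
  · exact (HomologySequence.composableArrows₅_exact (lowerSeq_shortExact f g T) p (p + 1) rfl).δ₀.δlast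
  · exact (HomologySequence.composableArrows₅_exact (upperSeq_shortExact f' g' T') p (p + 1) rfl).δ₀.δlast
  · exact (inferInstance : Epi (homologyMap (ψ f g f' g' w T.I₂.cocomplex T'.I₂.cocomplex χ.τ₂) p))
  · exact (inferInstance : Mono (homologyMap (ψ f g f' g' w T.I₃.cocomplex T'.I₃.cocomplex χ.τ₃) p))
  · exact ⟨fun a b _ => hz.eq_of_tgt a b⟩

include hχ₁ hχ₂ hχ₃ in
theorem coker_mono (p : ℕ) (h₃ : IsIso (EtBC.bcQ f g f' g' w p S₀.X₃))
    (h₄ : Mono (EtBC.bcQ f g f' g' w (p + 1) S₀.X₃)) :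
    ∃ φ : cokernel (EtBC.bcQ f g f' g' w (p + 1) S₀.X₁) ⟶ cokernel (EtBC.bcQ f g f' g' w (p + 1) S₀.X₂),
      Mono φ ∧ cokernel.π (EtBC.bcQ f g f' g' w (p + 1) S₀.X₁) ≫ φ =
        (EtCoh.Rpush f' (p + 1)).map ((EtCoh.pull g').map S₀.f) ≫ cokernel.π _ := by
  let Φ := ψSeq f g f' g' w T T' χ
  haveI := (isIso_bcQ_iff f g f' g' w S₀.X₃ T.I₃ T'.I₃ χ.τ₃ hχ₃ p).1 h₃
  haveI := (mono_bcQ_iff f g f' g' w S₀.X₃ T.I₃ T'.I₃ χ.τ₃ hχ₃ (p + 1)).1 h₄
  haveI : Epi (homologyMap Φ.τ₃ p) :=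
    (inferInstance : Epi (homologyMap (ψ f g f' g' w T.I₃.cocomplex T'.I₃.cocomplex χ.τ₃) p))
  haveI : Mono (homologyMap Φ.τ₃ (p + 1)) :=
    (inferInstance : Mono (homologyMap (ψ f g f' g' w T.I₃.cocomplex T'.I₃.cocomplex χ.τ₃) (p + 1)))
  have hl := lowerSeq_shortExact f g T
  have hu := upperSeq_shortExact f' g' T'
  have e₂ : homologyMap (lowerSeq f g T).f (p + 1) ≫ homologyMap Φ.τ₂ (p + 1) =
      homologyMap Φ.τ₁ (p + 1) ≫ homologyMap (upperSeq f' g' T').f (p + 1) := by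
    rw [← homologyMap_comp, ← homologyMap_comp, Φ.comm₁₂]
  have e₃ : homologyMap (lowerSeq f g T).g (p + 1) ≫ homologyMap Φ.τ₃ (p + 1) =
      homologyMap Φ.τ₂ (p + 1) ≫ homologyMap (upperSeq f' g' T').g (p + 1) := by
    rw [← homologyMap_comp, ← homologyMap_comp, Φ.comm₂₃]
  have hm := mono_cokernel_map (hl.δ p (p + 1) rfl) _ _ (hu.δ p (p + 1) rfl) _ _
    (homologyMap Φ.τ₃ p) (homologyMap Φ.τ₁ (p + 1)) (homologyMap Φ.τ₂ (p + 1)) (homologyMap Φ.τ₃ (p + 1))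
    (show homologyMap (lowerSeq f g T).f (p + 1) ≫ homologyMap (lowerSeq f g T).g (p + 1) = 0 by
      rw [← homologyMap_comp, ShortComplex.zero, homologyMap_zero])
    (hl.homology_exact₂ (p + 1)) (hu.δ_comp p (p + 1) rfl) (hu.homology_exact₁ p (p + 1) rfl)
    (show homologyMap (upperSeq f' g' T').f (p + 1) ≫ homologyMap (upperSeq f' g' T').g (p + 1) = 0 by
      rw [← homologyMap_comp, ShortComplex.zero, homologyMap_zero])
    (HomologySequence.δ_naturality Φ hl hu p (p + 1) rfl) e₂ e₃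
  let P := fun (M : EtCoh.Ab X) (I : InjectiveResolution M) =>
    (EtCoh.pull g).mapIso (I.isoRightDerivedObj (EtCoh.push f) (p + 1)) ≪≫
      ((((cx (EtCoh.push f)).obj I.cocomplex).sc (p + 1)).mapHomologyIso (EtCoh.pull g)).symm
  have hq₁ : EtBC.bcQ f g f' g' w (p + 1) S₀.X₁ = (P _ T.I₁).hom ≫ homologyMap Φ.τ₁ (p + 1) ≫
      (T'.I₁.isoRightDerivedObj (EtCoh.push f') (p + 1)).inv :=
    (bcQ_eq f g f' g' w _ T.I₁ T'.I₁ χ.τ₁ hχ₁ (p + 1)).trans (Category.assoc _ _ _).symm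
  have hq₂ : EtBC.bcQ f g f' g' w (p + 1) S₀.X₂ = (P _ T.I₂).hom ≫ homologyMap Φ.τ₂ (p + 1) ≫
      (T'.I₂.isoRightDerivedObj (EtCoh.push f') (p + 1)).inv :=
    (bcQ_eq f g f' g' w _ T.I₂ T'.I₂ χ.τ₂ hχ₂ (p + 1)).trans (Category.assoc _ _ _).symm
  have hf := congr_arg (fun k => HomologicalComplex.Hom.f k 0) T'.ι_f
  simp only [HomologicalComplex.comp_f, CochainComplex.single₀_map_f_zero] at hf
  have hn : (EtCoh.Rpush f' (p + 1)).map ((EtCoh.pull g').map S₀.f) ≫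
      (T'.I₂.isoRightDerivedObj (EtCoh.push f') (p + 1)).hom =
      (T'.I₁.isoRightDerivedObj (EtCoh.push f') (p + 1)).hom ≫ homologyMap (upperSeq f' g' T').f (p + 1) :=
    InjectiveResolution.isoRightDerivedObj_hom_naturality ((EtCoh.pull g').map S₀.f) T'.I₁ T'.I₂ T'.f hf
      (EtCoh.push f') (p + 1)
  have hc₁ : EtBC.bcQ f g f' g' w (p + 1) S₀.X₁ ≫ (T'.I₁.isoRightDerivedObj (EtCoh.push f') (p + 1)).hom =
      (P _ T.I₁).hom ≫ homologyMap Φ.τ₁ (p + 1) := by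
    rw [hq₁]; simp
  have hc₂ : EtBC.bcQ f g f' g' w (p + 1) S₀.X₂ ≫ (T'.I₂.isoRightDerivedObj (EtCoh.push f') (p + 1)).hom =
      (P _ T.I₂).hom ≫ homologyMap Φ.τ₂ (p + 1) := by
    rw [hq₂]; simp
  let E₁ := cokernel.mapIso _ _ (P _ T.I₁) (T'.I₁.isoRightDerivedObj (EtCoh.push f') (p + 1)) hc₁
  let E₂ := cokernel.mapIso _ _ (P _ T.I₂) (T'.I₂.isoRightDerivedObj (EtCoh.push f') (p + 1)) hc₂
  haveI := hm
  refine ⟨E₁.hom ≫ cokernel.map _ _ _ _ e₂.symm ≫ E₂.inv, inferInstance, ?_⟩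
  refine (cancel_mono E₂.hom).1 ?_
  simp only [Category.assoc, Iso.inv_hom_id, Category.comp_id]
  simp only [Category.assoc, E₁, E₂, cokernel.mapIso_hom, cokernel.map,
    cokernel.π_desc, cokernel.π_desc_assoc]
  rw [← Category.assoc, ← Category.assoc]
  exact congrArg (fun z => z ≫ cokernel.π (homologyMap Φ.τ₂ (p + 1))) hn.symm

end SES

end Groth.Agent.EtBCQ24
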