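import Groth.Agent.Lib.EtBCQ24.Mono

/-!
# The first degree in which base change is not known
-/

set_option autoImplicit false
set_option linter.style.haveILetI false
set_option linter.unusedSectionVars false
set_option backward.isDefEq.respectTransparency false
set_option backward.isDefEq.respectTransparency.types false

universe u

open CategoryTheory CategoryTheory.Limits AlgebraicGeometry

namespace Groth.Agent.EtBCQ24

variable {X S Y T : Scheme.{u}} (f : X ⟶ S) (g : T ⟶ S) (h : Y ⟶ X) (e : Y ⟶ T) (w : e ≫ g = h ≫ f)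
  [PreservesFiniteLimits (EtCoh.pull e)] (n p : ℕ)
  (H : ∀ G : EtCoh.Ab T, EtCoh.KilledBy n G → IsIso (EtBC.bcQ g f h e w p G))

theorem killedBy_of_epi' {A B : EtCoh.Ab T} (π : A ⟶ B) [Epi π] (hA : n • 𝟙 A = 0) : n • 𝟙 B = 0 := by
  rw [← cancel_epi π, Preadditive.comp_nsmul, Category.comp_id, comp_zero]
  have e' : n • π = (n • 𝟙 A) ≫ π := by rw [Preadditive.nsmul_comp, Category.id_comp]
  rw [e', hA, zero_comp]

theorem exists_data {S₀ : ShortComplex (EtCoh.Ab T)} (hS : S₀.ShortExact) :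
    ∃ (U : RDer.SESRes S₀) (U' : RDer.SESRes (S₀.map (EtCoh.pull e)))
      (χ : U.cx.map ((EtCoh.pull e).mapHomologicalComplex (ComplexShape.up ℕ)) ⟶ U'.cx),
      (EtCoh.pull e).map (U.I₁.ι.f 0) ≫ χ.τ₁.f 0 = U'.I₁.ι.f 0 ∧
      (EtCoh.pull e).map (U.I₂.ι.f 0) ≫ χ.τ₂.f 0 = U'.I₂.ι.f 0 ∧
      (EtCoh.pull e).map (U.I₃.ι.f 0) ≫ χ.τ₃.f 0 = U'.I₃.ι.f 0 := by
  obtain ⟨U⟩ := RDerLES.exists_sesRes hS
  obtain ⟨U'⟩ := RDerLES.exists_sesRes (hS.map_of_exact (EtCoh.pull e))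
  obtain ⟨χ, hχ⟩ := exists_lifts e hS U U'
  exact ⟨U, U', χ, hχ⟩

include H in
theorem mono_bcQ_succ (F : EtCoh.Ab T) (hF : EtCoh.KilledBy n F) : Mono (EtBC.bcQ g f h e w (p + 1) F) := by
  obtain ⟨J, u, hu, hacyc, hJ⟩ := exists_acyc_embed F (nsmul_id_of_killedBy hF)
  have hS : (ShortComplex.mk u (cokernel.π u) (cokernel.condition u)).ShortExact :=
    { exact := ShortComplex.exact_cokernel u }
  obtain ⟨U, U', χ, h₁, h₂, h₃⟩ := exists_data e hS
  exact mono_of_acyclic g f h e w U U' χ h₁ h₂ h₃ p (H J (killedBy_of_nsmul hJ))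
    (H _ (killedBy_of_nsmul (killedBy_of_epi' n (cokernel.π u) hJ)))
    (EtAcyc24.isZero_Rpush_of_acyc g hacyc (p + 1) p.succ_pos)

include H in
theorem exists_mono_coker (F : EtCoh.Ab T) (G : EtCoh.Ab T) (ι : F ⟶ G) [Mono ι]
    (hG : EtCoh.KilledBy n G) :
    ∃ φ : cokernel (EtBC.bcQ g f h e w (p + 1) F) ⟶ cokernel (EtBC.bcQ g f h e w (p + 1) G), Mono φ ∧
      cokernel.π (EtBC.bcQ g f h e w (p + 1) F) ≫ φ =
        (EtCoh.Rpush h (p + 1)).map ((EtCoh.pull e).map ι) ≫ cokernel.π (EtBC.bcQ g f h e w (p + 1) G) := by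
  have hS : (ShortComplex.mk ι (cokernel.π ι) (cokernel.condition ι)).ShortExact :=
    { exact := ShortComplex.exact_cokernel ι }
  obtain ⟨U, U', χ, h₁, h₂, h₃⟩ := exists_data e hS
  have hC := killedBy_of_nsmul (killedBy_of_epi' n (cokernel.π ι) (nsmul_id_of_killedBy hG))
  exact coker_mono g f h e w U U' χ h₁ h₂ h₃ p (H _ hC) (mono_bcQ_succ f g h e w n p H _ hC)

end Groth.Agent.EtBCQ24
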