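import Groth.Agent.Lib.EtBCQ24.EtaleBC
import Mathlib.CategoryTheory.Limits.Shapes.Pullback.IsPullback.Basic

/-!
# The base change morphism is local for the etale topology
-/

set_option autoImplicit false
set_option linter.style.haveILetI false
set_option linter.unusedSectionVars false
set_option backward.isDefEq.respectTransparency false
set_option backward.isDefEq.respectTransparency.types false

universe u

open CategoryTheory CategoryTheory.Limits AlgebraicGeometry Opposite HomologicalComplex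
open Groth.Agent.EtStalk

namespace Groth.Agent.EtBCQ24

local notation "cx" F => Functor.mapHomologicalComplex F (ComplexShape.up ℕ)

theorem isIso_bcQ_congr {X S Y T : Scheme.{u}} (g : T ⟶ S) (h : Y ⟶ X) {f f₂ : X ⟶ S} {e e₂ : Y ⟶ T}
    (hf : f = f₂) (he : e = e₂) (w : e ≫ g = h ≫ f) (w₂ : e₂ ≫ g = h ≫ f₂) (F : EtCoh.Ab T) (q : ℕ) :
    IsIso (EtBC.bcQ g f h e w q F) ↔ IsIso (EtBC.bcQ g f₂ h e₂ w₂ q F) := by
  subst hf he
  rfl

variable {X S Y T W Z : Scheme.{u}} (f : X ⟶ S) (g : T ⟶ S) (h : Y ⟶ X) (e : Y ⟶ T)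
  (w : e ≫ g = h ≫ f) (i : W ⟶ X) (j : Z ⟶ W) (k : Z ⟶ Y) (w' : k ≫ h = j ≫ i)
  (w'' : (k ≫ e) ≫ g = j ≫ (i ≫ f))

theorem isIso_pull_homologyMap_iff {C D : CochainComplex (EtCoh.Ab X) ℕ} (φ : C ⟶ D) (q : ℕ) :
    IsIso ((EtCoh.pull i).map (homologyMap φ q)) ↔ IsIso (homologyMap ((cx (EtCoh.pull i)).map φ) q) := by
  have e := ShortComplex.mapHomologyIso_hom_naturality
    ((HomologicalComplex.shortComplexFunctor _ (ComplexShape.up ℕ) q).map φ) (EtCoh.pull i)
  exact ((Arrow.isoMk ((C.sc q).mapHomologyIso (EtCoh.pull i)) ((D.sc q).mapHomologyIso (EtCoh.pull i)) e.symm :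
    Arrow.mk (homologyMap ((cx (EtCoh.pull i)).map φ) q) ≅ Arrow.mk ((EtCoh.pull i).map (homologyMap φ q)))
    |> fun a => (MorphismProperty.isomorphisms _).arrow_mk_iso_iff a).symm

/-- If the outer square and the upper square have isomorphic base change maps, so has the pullback of the lower one. -/
theorem isIso_pull_bcQ_of_comp (F : EtCoh.Ab T) (q : ℕ) (h'' : IsIso (EtBC.bcQ g (i ≫ f) j (k ≫ e) w'' q F))
    (h2 : IsIso (EtBC.bcQ h i j k w' q ((EtCoh.pull e).obj F))) :
    IsIso ((EtCoh.pull i).map (EtBC.bcQ g f h e w q F)) := by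
  let I := injectiveResolution F
  let J := injectiveResolution ((EtCoh.pull e).obj F)
  let J' := injectiveResolution ((EtCoh.pull k).obj ((EtCoh.pull e).obj F))
  let J'' : InjectiveResolution ((EtCoh.pull (k ≫ e)).obj F) :=
    { cocomplex := J'.cocomplex
      injective := J'.injective
      ι := (CochainComplex.single₀ (EtCoh.Ab Z)).map ((EtCore.pullComp k e).hom.app F) ≫ J'.ι }
  let χ'' : (cx (EtCoh.pull (k ≫ e))).obj I.cocomplex ⟶ J''.cocomplex :=
    (NatTrans.mapHomologicalComplex (EtCore.pullComp k e).hom (ComplexShape.up ℕ)).app I.cocomplex ≫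
      (cx (EtCoh.pull k)).map (χK e F) ≫ χK k ((EtCoh.pull e).obj F)
  rw [isIso_bcQ_iff g (i ≫ f) j (k ≫ e) w'' F I J'' χ'' (ι_pullComp e k F)] at h''
  change IsIso (homologyMap (ψ g (i ≫ f) j (k ≫ e) w'' I.cocomplex J'.cocomplex
    ((NatTrans.mapHomologicalComplex (EtCore.pullComp k e).hom (ComplexShape.up ℕ)).app I.cocomplex ≫
      (cx (EtCoh.pull k)).map (χK e F) ≫ χK k ((EtCoh.pull e).obj F))) q) at h''
  rw [isIso_bcQ_iff h i j k w' _ J J' (χK k _) (ι_χK k _)] at h2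
  rw [ψ_comp f g h e w i j k w' w'' _ J.cocomplex, homologyMap_comp, homologyMap_comp] at h''
  haveI : IsIso ((NatTrans.mapHomologicalComplex (EtCore.pullComp i f).hom (ComplexShape.up ℕ)).app
      ((cx (EtCoh.push g)).obj I.cocomplex)) := by
    haveI : ∀ n, IsIso (((NatTrans.mapHomologicalComplex (EtCore.pullComp i f).hom (ComplexShape.up ℕ)).app
      ((cx (EtCoh.push g)).obj I.cocomplex)).f n) := fun n => by
        show IsIso ((EtCore.pullComp i f).hom.app _)
        infer_instance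
    exact HomologicalComplex.Hom.isIso_of_components _
  rw [isIso_comp_left_iff, isIso_comp_right_iff] at h''
  rw [bcQ_eq g f h e w F I J (χK e F) (ι_χK e F), Functor.map_comp, Functor.map_comp, Functor.map_comp,
    isIso_comp_left_iff, isIso_comp_left_iff, isIso_comp_right_iff, isIso_pull_homologyMap_iff]
  exact h''

/-- A morphism of abelian sheaves is an isomorphism if it is one after pulling back along an etale cover. -/
theorem isIso_of_covers {F G : EtCoh.Ab X} (φ : F ⟶ G) {ι : Type u} (U : ι → X.Etale) (hU : EtCoh.Covers U)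
    (hloc : ∀ i, IsIso ((EtCoh.pull (U i).hom).map φ)) : IsIso φ := by
  rw [isIso_iff_stalk]
  intro Ω _ _ ξ
  obtain ⟨i, y, hy⟩ := hU (ξ default)
  haveI : AlgebraicGeometry.Etale (U i).hom := (U i).prop
  obtain ⟨z, -⟩ := Scheme.pointSmallEtaleFiberObjToPreimage_surjective ξ (s₀ := ξ default) rfl (U i) ⟨y, hy⟩
  have hζ : z.left ≫ (U i).hom = ξ := Over.w z
  rw [← hζ, ← ConcreteCategory.isIso_iff_bijective]
  haveI := hloc i
  have : (EtCoh.stalk (z.left ≫ (U i).hom)).map φ =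
      stalkPull (U i).hom z.left F ≫ (EtCoh.stalk z.left).map ((EtCoh.pull (U i).hom).map φ) ≫
        inv (stalkPull (U i).hom z.left G) := by
    rw [← Category.assoc, IsIso.eq_comp_inv]
    exact (stalkPull_nat (U i).hom z.left φ).symm
  rw [this]
  infer_instance

theorem isIso_bcQ_of_local {X S Y T : Scheme.{u}} (f : X ⟶ S) (g : T ⟶ S) (h : Y ⟶ X) (e : Y ⟶ T)
    (c : IsPullback e h g f) (F : EtCoh.Ab T) (q : ℕ)
    {ι : Type u} (U : ι → X.Etale) (hU : EtCoh.Covers U) (V : ι → S.Etale)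
    (a : ∀ i, (U i).left ⟶ (V i).left) (ha : ∀ i, a i ≫ (V i).hom = (U i).hom ≫ f)
    (Ti Yi : ι → Scheme.{u}) (gi : ∀ i, Ti i ⟶ (V i).left) (ti : ∀ i, Ti i ⟶ T)
    (cT : ∀ i, IsPullback (ti i) (gi i) g (V i).hom)
    (hi : ∀ i, Yi i ⟶ (U i).left) (ei : ∀ i, Yi i ⟶ Ti i) (cY : ∀ i, IsPullback (ei i) (hi i) (gi i) (a i))
    (hloc : ∀ i, IsIso (EtBC.bcQ (gi i) (a i) (hi i) (ei i) (cY i).w q ((EtCoh.pull (ti i)).obj F))) :
    IsIso (EtBC.bcQ g f h e c.w q F) := by
  refine isIso_of_covers _ U hU fun i => ?_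
  haveI : AlgebraicGeometry.Etale (U i).hom := (U i).prop
  haveI : AlgebraicGeometry.Etale (V i).hom := (V i).prop
  haveI : AlgebraicGeometry.Etale (ti i) := MorphismProperty.of_isPullback (cT i).flip ‹_›
  have co : IsPullback (ei i ≫ ti i) (hi i) g (a i ≫ (V i).hom) := (cY i).paste_horiz (cT i)
  have h1 := isIso_bcQ_comp (V i).hom g (gi i) (ti i) (cT i).w (a i) (hi i) (ei i) (cY i).w co.w F q
    (isIso_bcQ_etale g (V i).hom (gi i) (ti i) (cT i) F q) (hloc i)
  let k : Yi i ⟶ Y := c.lift (ei i ≫ ti i) (hi i ≫ (U i).hom) (by rw [co.w, ha, Category.assoc])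
  have hk₁ : k ≫ e = ei i ≫ ti i := c.lift_fst _ _ _
  have hk₂ : k ≫ h = hi i ≫ (U i).hom := c.lift_snd _ _ _
  have co' : IsPullback (k ≫ e) (hi i) g ((U i).hom ≫ f) := by rw [hk₁, ← ha]; exact co
  have ck : IsPullback k (hi i) h (U i).hom := IsPullback.of_right co' hk₂ c
  haveI : AlgebraicGeometry.Etale k := MorphismProperty.of_isPullback ck.flip ‹_›
  exact isIso_pull_bcQ_of_comp f g h e c.w (U i).hom (hi i) k hk₂ co'.w F q
    ((isIso_bcQ_congr g (hi i) (ha i) hk₁.symm co.w co'.w F q).1 h1)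
    (isIso_bcQ_etale h (U i).hom (hi i) k ck _ q)

end Groth.Agent.EtBCQ24
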