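import Groth.Agent.Lib.EtBCQ24.Chain
import Groth.Agent.Lib.RDerLES.Horseshoe

/-!
# Compatible lifts to resolutions of short exact sequences
-/

set_option autoImplicit false
set_option linter.style.haveILetI false
set_option linter.unusedSectionVars false
set_option backward.isDefEq.respectTransparency false
set_option backward.isDefEq.respectTransparency.types false

universe u

open CategoryTheory CategoryTheory.Limits AlgebraicGeometry HomologicalComplex

namespace Groth.Agent.EtBCQ24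

section Lift

variable {C : Type*} [Category C] [Abelian C] {S : ShortComplex C}

/-- Maps from a resolution of a short exact sequence to a sequence of complexes of injectives. -/
theorem exists_hom_cx (hS : S.ShortExact) (T : RDer.SESRes S) (L : ShortComplex (CochainComplex C ℕ))
    (hL₁ : ∀ n, Injective (L.X₁.X n)) (hL₂ : ∀ n, Injective (L.X₂.X n))
    (c : S.map (CochainComplex.single₀ C) ⟶ L) :
    ∃ ψ : T.cx ⟶ L, T.I₁.ι ≫ ψ.τ₁ = c.τ₁ ∧ T.I₂.ι ≫ ψ.τ₂ = c.τ₂ ∧ T.I₃.ι ≫ ψ.τ₃ = c.τ₃ := by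
  let sS : ShortComplex (CochainComplex C ℕ) := S.map (CochainComplex.single₀ C)
  have hsS : sS.ShortExact := hS.map_of_exact _
  haveI : Mono ((CochainComplex.single₀ C).map S.f) := hsS.mono_f
  haveI : Mono T.I₁.ι := HomologicalComplex.mono_of_mono_f _ fun n => inferInstance
  obtain ⟨a, ha⟩ := RDerLES.extend_lift T.I₁.ι hL₁ c.τ₁
  let gP : pushout T.I₁.ι ((CochainComplex.single₀ C).map S.f) ⟶ ((CochainComplex.single₀ C).obj S.X₃) :=
    pushout.desc 0 ((CochainComplex.single₀ C).map S.g)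
      (by rw [comp_zero, ← Functor.map_comp, S.zero, Functor.map_zero])
  let PS : ShortComplex (CochainComplex C ℕ) :=
    ShortComplex.mk (pushout.inl T.I₁.ι ((CochainComplex.single₀ C).map S.f)) gP (pushout.inl_desc _ _ _)
  have hPS : PS.ShortExact := RDerLES.exists_hom.shortExact_pushout hsS T.I₁.ι
  let j : pushout T.I₁.ι ((CochainComplex.single₀ C).map S.f) ⟶ T.I₂.cocomplex := pushout.desc T.f T.I₂.ι T.ι_f
  let θ : PS ⟶ T.cx := ShortComplex.homMk (𝟙 _) j T.I₃.ι ((Category.id_comp _).trans (pushout.inl_desc _ _ _).symm)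
    (pushout.hom_ext
      (by
        dsimp [PS, gP, j]
        erw [pushout.inl_desc_assoc, pushout.inl_desc_assoc, zero_comp]
        exact T.zero)
      (by
        dsimp [PS, gP, j]
        erw [pushout.inr_desc_assoc, pushout.inr_desc_assoc]
        exact T.ι_g))
  let θ' : sS ⟶ PS := ShortComplex.homMk T.I₁.ι (pushout.inr T.I₁.ι ((CochainComplex.single₀ C).map S.f)) (𝟙 _)
    pushout.condition ((pushout.inr_desc _ _ _).trans (Category.comp_id _).symm)
  have hq' : _root_.QuasiIso (pushout.inr T.I₁.ι ((CochainComplex.single₀ C).map S.f)) :=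
    RDerLES.quasiIso_τ₂ θ' hsS hPS T.I₁.quasiIso (inferInstanceAs (_root_.QuasiIso (𝟙 _)))
  have hq : _root_.QuasiIso j := by
    have : _root_.QuasiIso (pushout.inr T.I₁.ι ((CochainComplex.single₀ C).map S.f) ≫ j) := by
      rw [pushout.inr_desc]; exact T.I₂.quasiIso
    exact quasiIso_of_comp_left (pushout.inr T.I₁.ι ((CochainComplex.single₀ C).map S.f)) j
  have hι₃ : Mono T.I₃.ι := HomologicalComplex.mono_of_mono_f _ fun n => inferInstance
  have hjm : Mono j := ShortComplex.mono_of_mono_of_mono_of_mono θ hPS.exact T.shortExact.mono_f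
    (inferInstanceAs (Mono (𝟙 _))) hι₃
  obtain ⟨b, hb⟩ := RDerLES.extend_lift j hL₂ (pushout.desc (a ≫ L.f) c.τ₂ (by
    rw [reassoc_of% ha]; exact c.comm₁₂))
  have hb₁ : T.f ≫ b = a ≫ L.f := by
    have := congrArg (pushout.inl T.I₁.ι ((CochainComplex.single₀ C).map S.f) ≫ ·) hb
    dsimp [j] at this
    erw [pushout.inl_desc_assoc, pushout.inl_desc] at this
    exact this
  have hb₂ : T.I₂.ι ≫ b = c.τ₂ := by
    have := congrArg (pushout.inr T.I₁.ι ((CochainComplex.single₀ C).map S.f) ≫ ·) hb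
    dsimp [j] at this
    erw [pushout.inr_desc_assoc, pushout.inr_desc] at this
    exact this
  haveI := T.shortExact.epi_g
  have hz : T.f ≫ b ≫ L.g = 0 := by rw [reassoc_of% hb₁, L.zero, comp_zero]
  refine ⟨ShortComplex.homMk a b (T.shortExact.exact.desc (b ≫ L.g) hz) hb₁.symm
    (T.shortExact.exact.g_desc _ _).symm, ha, hb₂, ?_⟩
  have : Epi ((CochainComplex.single₀ C).map S.g) := hsS.epi_g
  rw [← cancel_epi ((CochainComplex.single₀ C).map S.g), ← reassoc_of% T.ι_g]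
  refine (congrArg (T.I₂.ι ≫ ·) (T.shortExact.exact.g_desc (b ≫ L.g) hz)).trans ?_
  rw [reassoc_of% hb₂]
  exact c.comm₂₃

end Lift

section Refine

variable {A : Type*} [Category A] [Abelian A] {A₁ A₂ A₃ A₄ B₁ B₂ B₃ B₄ : A}
  (a₁ : A₁ ⟶ A₂) (a₂ : A₂ ⟶ A₃) (a₃ : A₃ ⟶ A₄) (b₁ : B₁ ⟶ B₂) (b₂ : B₂ ⟶ B₃) (b₃ : B₃ ⟶ B₄)
  (β₁ : A₁ ⟶ B₁) (β₂ : A₂ ⟶ B₂) (β₃ : A₃ ⟶ B₃) (β₄ : A₄ ⟶ B₄)

/-- The four lemma on the map of cokernels. -/
theorem mono_cokernel_map (wa : a₂ ≫ a₃ = 0) (hA : (ShortComplex.mk a₂ a₃ wa).Exact)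
    (wb : b₁ ≫ b₂ = 0) (hB : (ShortComplex.mk b₁ b₂ wb).Exact) (wb' : b₂ ≫ b₃ = 0)
    (e₁ : a₁ ≫ β₂ = β₁ ≫ b₁) (e₂ : a₂ ≫ β₃ = β₂ ≫ b₂) (e₃ : a₃ ≫ β₄ = β₃ ≫ b₃) [Epi β₁] [Mono β₄] :
    Mono (cokernel.map β₂ β₃ a₂ b₂ e₂.symm) := by
  refine Preadditive.mono_of_cancel_zero _ fun {W} z hz => ?_
  obtain ⟨W₁, p₁, _, y, hy⟩ := surjective_up_to_refinements_of_epi (cokernel.π β₂) z
  have hy0 : y ≫ b₂ ≫ cokernel.π β₃ = 0 := by
    rw [show b₂ ≫ cokernel.π β₃ = cokernel.π β₂ ≫ cokernel.map β₂ β₃ a₂ b₂ e₂.symm from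
      (cokernel.π_desc _ _ _).symm, ← reassoc_of% hy, hz, comp_zero]
  obtain ⟨W₂, p₂, _, x, hx⟩ := (ShortComplex.exact_cokernel β₃).exact_up_to_refinements (y ≫ b₂)
    ((Category.assoc _ _ _).trans hy0)
  dsimp at hx
  have hx0 : x ≫ a₃ = 0 := by
    rw [← cancel_mono β₄, Category.assoc, e₃, zero_comp, ← reassoc_of% hx, wb', comp_zero, comp_zero]
  obtain ⟨W₃, p₃, _, w, hw⟩ := hA.exact_up_to_refinements x hx0
  dsimp at hw
  obtain ⟨W₄, p₄, _, v, hv⟩ := hB.exact_up_to_refinements ((p₃ ≫ p₂ ≫ y) - w ≫ β₂) (by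
    dsimp
    rw [Preadditive.sub_comp, Category.assoc, Category.assoc, Category.assoc, ← e₂, hx, ← reassoc_of% hw,
      sub_self])
  dsimp at hv
  obtain ⟨W₅, p₅, _, t, ht⟩ := surjective_up_to_refinements_of_epi β₁ v
  have h₀ : (p₅ ≫ p₄) ≫ (p₃ ≫ p₂ ≫ y) = ((p₅ ≫ p₄) ≫ w + t ≫ a₁) ≫ β₂ := by
    rw [Preadditive.add_comp, Category.assoc t, e₁, ← reassoc_of% ht, ← hv, Preadditive.comp_sub,
      Preadditive.comp_sub]
    simp only [Category.assoc]
    abel
  have h1 := congrArg (fun r => r ≫ cokernel.π β₂) h₀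
  simp only [Category.assoc, cokernel.condition, comp_zero, ← hy] at h1
  rw [← cancel_epi p₁, ← cancel_epi p₂, ← cancel_epi p₃, ← cancel_epi p₄, ← cancel_epi p₅, h1]
  simp only [comp_zero]

end Refine

variable {X S X' S' : Scheme.{u}} (f : X ⟶ S) (g : S' ⟶ S) (f' : X' ⟶ S') (g' : X' ⟶ X)
  (w : g' ≫ f = f' ≫ g)

local notation "cx" F => Functor.mapHomologicalComplex F (ComplexShape.up ℕ)

theorem ψ_natural {I I' : CochainComplex (EtCoh.Ab X) ℕ} {J J' : CochainComplex (EtCoh.Ab X') ℕ}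
    (χ : (cx (EtCoh.pull g')).obj I ⟶ J) (χ' : (cx (EtCoh.pull g')).obj I' ⟶ J') (a : I ⟶ I') (b : J ⟶ J')
    (h : (cx (EtCoh.pull g')).map a ≫ χ' = χ ≫ b) :
    (cx (EtCoh.pull g)).map ((cx (EtCoh.push f)).map a) ≫ ψ f g f' g' w I' J' χ' =
      ψ f g f' g' w I J χ ≫ (cx (EtCoh.push f')).map b := by
  have hn : (cx (EtCoh.pull g)).map ((cx (EtCoh.push f)).map a) ≫
      (NatTrans.mapHomologicalComplex (bc0N f g f' g' w) (ComplexShape.up ℕ)).app I' =
      (NatTrans.mapHomologicalComplex (bc0N f g f' g' w) (ComplexShape.up ℕ)).app I ≫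
        (cx (EtCoh.push f')).map ((cx (EtCoh.pull g')).map a) :=
    (NatTrans.mapHomologicalComplex (bc0N f g f' g' w) (ComplexShape.up ℕ)).naturality a
  rw [ψ, ψ, Category.assoc, ← Functor.map_comp, ← h, Functor.map_comp]
  exact (Category.assoc _ _ _).symm.trans ((congrArg (fun z => z ≫ _) hn).trans (Category.assoc _ _ _))

/-- Compatible lifts for a short exact sequence and its inverse image. -/
theorem exists_lifts {S₀ : ShortComplex (EtCoh.Ab X)} (hS : S₀.ShortExact) (T : RDer.SESRes S₀)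
    (T' : RDer.SESRes (S₀.map (EtCoh.pull g'))) :
    ∃ χ : T.cx.map (cx (EtCoh.pull g')) ⟶ T'.cx,
      (EtCoh.pull g').map (T.I₁.ι.f 0) ≫ χ.τ₁.f 0 = T'.I₁.ι.f 0 ∧
      (EtCoh.pull g').map (T.I₂.ι.f 0) ≫ χ.τ₂.f 0 = T'.I₂.ι.f 0 ∧
      (EtCoh.pull g').map (T.I₃.ι.f 0) ≫ χ.τ₃.f 0 = T'.I₃.ι.f 0 := by
  let L := T'.cx.map (cx (EtCoh.push g'))
  let η := (EtCoh.pullPushAdj g').unit
  let P := cx (EtCoh.push g')
  let c₁ := (CochainComplex.single₀ _).map (η.app S₀.X₁) ≫ RDer.mapAug (EtCoh.push g') T'.I₁.ι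
  let c₂ := (CochainComplex.single₀ _).map (η.app S₀.X₂) ≫ RDer.mapAug (EtCoh.push g') T'.I₂.ι
  let c₃ := (CochainComplex.single₀ _).map (η.app S₀.X₃) ≫ RDer.mapAug (EtCoh.push g') T'.I₃.ι
  have hf := congr_arg (fun k => HomologicalComplex.Hom.f k 0) T'.ι_f
  have hg := congr_arg (fun k => HomologicalComplex.Hom.f k 0) T'.ι_g
  simp only [HomologicalComplex.comp_f, CochainComplex.single₀_map_f_zero] at hf hg
  let c : S₀.map (CochainComplex.single₀ _) ⟶ L :=
    ShortComplex.homMk c₁ c₂ c₃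
      (HomologicalComplex.from_single_hom_ext (by
        simp only [c₁, c₂, comp_f, CochainComplex.single₀_map_f_zero, mapAug_f_zero, L, ShortComplex.map_f,
          Functor.mapHomologicalComplex_map_f, Category.assoc]
        rw [← Functor.map_comp, hf, Functor.map_comp]
        exact (η.naturality_assoc S₀.f _).symm))
      (HomologicalComplex.from_single_hom_ext (by
        simp only [c₂, c₃, comp_f, CochainComplex.single₀_map_f_zero, mapAug_f_zero, L, ShortComplex.map_g,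
          Functor.mapHomologicalComplex_map_f, Category.assoc]
        rw [← Functor.map_comp, hg, Functor.map_comp]
        exact (η.naturality_assoc S₀.g _).symm))
  obtain ⟨θ, h1, h2, h3⟩ := exists_hom_cx hS T L
    (fun n => (EtCoh.push g').injective_obj_of_injective (T'.I₁.injective n))
    (fun n => (EtCoh.push g').injective_obj_of_injective (T'.I₂.injective n)) c
  let adj := KInjLib.adjComplexes (EtCoh.pullPushAdj g') (ComplexShape.up ℕ)
  refine ⟨ShortComplex.homMk ((adj.homEquiv _ _).symm θ.τ₁) ((adj.homEquiv _ _).symm θ.τ₂)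
    ((adj.homEquiv _ _).symm θ.τ₃) ?_ ?_, ?_, ?_, ?_⟩
  · exact (adj.homEquiv_naturality_right_symm _ _).symm.trans
      ((congrArg _ θ.comm₁₂).trans (adj.homEquiv_naturality_left_symm _ _))
  · exact (adj.homEquiv_naturality_right_symm _ _).symm.trans
      ((congrArg _ θ.comm₂₃).trans (adj.homEquiv_naturality_left_symm _ _))
  all_goals
    dsimp only [ShortComplex.homMk_τ₁, ShortComplex.homMk_τ₂, ShortComplex.homMk_τ₃]
  · exact aug_symm g' T.I₁ T'.I₁ θ.τ₁ h1
  · exact aug_symm g' T.I₂ T'.I₂ θ.τ₂ h2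
  · exact aug_symm g' T.I₃ T'.I₃ θ.τ₃ h3
where
  aug_symm {X X' : Scheme.{u}} (g' : X' ⟶ X) {M : EtCoh.Ab X} (I : InjectiveResolution M)
      (J : InjectiveResolution ((EtCoh.pull g').obj M))
      (θ : I.cocomplex ⟶ (Functor.mapHomologicalComplex (EtCoh.push g') (ComplexShape.up ℕ)).obj J.cocomplex)
      (h : I.ι ≫ θ = (CochainComplex.single₀ _).map ((EtCoh.pullPushAdj g').unit.app M) ≫
        RDer.mapAug (EtCoh.push g') J.ι) :
      (EtCoh.pull g').map (I.ι.f 0) ≫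
        (((KInjLib.adjComplexes (EtCoh.pullPushAdj g') (ComplexShape.up ℕ)).homEquiv _ _).symm θ).f 0 = J.ι.f 0 := by
    have h0 := congr_arg (fun k => HomologicalComplex.Hom.f k 0) h
    simp only [HomologicalComplex.comp_f, CochainComplex.single₀_map_f_zero, mapAug_f_zero] at h0
    have e : (((KInjLib.adjComplexes (EtCoh.pullPushAdj g') (ComplexShape.up ℕ)).homEquiv _ _).symm θ).f 0 =
        ((EtCoh.pullPushAdj g').homEquiv _ _).symm (θ.f 0) := by
      rw [Adjunction.homEquiv_counit]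
      exact ((EtCoh.pullPushAdj g').homEquiv_counit _ _ _).symm
    rw [e]
    refine ((EtCoh.pullPushAdj g').homEquiv_naturality_left_symm _ _).symm.trans ?_
    erw [h0, ← Adjunction.homEquiv_unit, Equiv.symm_apply_apply]

end Groth.Agent.EtBCQ24
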