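import Groth.Agent.Lib.EtBCQ24.Compose
import Groth.Agent.Lib.EtStalk.ExtZero
import Groth.Agent.Lib.EtStalk.JCont

/-!
# Base change along an etale morphism
-/

set_option autoImplicit false
set_option linter.style.haveILetI false
set_option linter.unusedSectionVars false
set_option backward.isDefEq.respectTransparency false
set_option backward.isDefEq.respectTransparency.types false

universe u

open CategoryTheory CategoryTheory.Limits AlgebraicGeometry Opposite HomologicalComplex
open Groth.Agent.EtStalk

namespace Groth.Agent.EtBCQ24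

variable {S T V T' : Scheme.{u}} (g : T ⟶ S) (v : V ⟶ S) [AlgebraicGeometry.Etale v] (g' : T' ⟶ V) (t : T' ⟶ T)
  (c : IsPullback t g' g v) [AlgebraicGeometry.Etale t]

include c in
theorem isPullback_secObj (W : V.Etale) :
    IsPullback (pullback.fst W.hom g') (pullback.snd W.hom g' ≫ t) (W.hom ≫ v) g :=
  (IsPullback.of_hasPullback W.hom g').paste_vert c.flip

/-- The two ways of moving an etale scheme from `V` to `T`. -/
noncomputable def secObj :
    EtShriek.compEtale v ⋙ EtCoh.bc g ≅ EtCoh.bc g' ⋙ EtShriek.compEtale t :=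
  NatIso.ofComponents
    (fun W => MorphismProperty.Over.isoMk (isPullback_secObj g v g' t c W).isoPullback.symm
      ((IsPullback.isoPullback_inv_snd (isPullback_secObj g v g' t c W)).trans rfl))
    (fun {W₁ W₂} φ => by
      apply MorphismProperty.Over.Hom.ext
      rw [left_comp, left_comp]
      apply (isPullback_secObj g v g' t c W₂).hom_ext
      · simp [EtCoh.bc, EtShriek.compEtale]
        exact pullback.lift_fst _ _ _
      · simp [EtCoh.bc, EtShriek.compEtale]
        exact pullback.lift_snd _ _ _)

/-- The identification on sections. -/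
noncomputable def secHom (F : EtCoh.Ab T) :
    (EtShriek.restrAlong v).obj ((EtCoh.push g).obj F) ⟶ (EtCoh.push g').obj ((EtShriek.restrAlong t).obj F) :=
  ⟨Functor.whiskerRight (NatTrans.op (secObj g v g' t c).inv) F.obj⟩

instance isIso_secHom (F : EtCoh.Ab T) : IsIso (secHom g v g' t c F) := by
  haveI : IsIso ((sheafToPresheaf V.smallEtaleTopology AddCommGrpCat.{u + 1}).map (secHom g v g' t c F)) := by
    show IsIso (Functor.whiskerRight (NatTrans.op (secObj g v g' t c).inv) F.obj)
    infer_instance
  exact isIso_of_fully_faithful (sheafToPresheaf _ _) _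

lemma counit_fst {A B : Scheme.{u}} (j : A ⟶ B) [AlgebraicGeometry.Etale j] (U : B.Etale) :
    ((compBcAdj j).counit.app U).left = bcFst j U := by
  simp [compBcAdj, MorphismProperty.Over.mapPullbackAdj]

@[reassoc]
lemma secObj_inv_fst (W : V.Etale) :
    ((secObj g v g' t c).inv.app W).left ≫ bcFst g ((EtShriek.compEtale v).obj W) = bcFst g' W :=
  (isPullback_secObj g v g' t c W).isoPullback_hom_fst

theorem homEquiv_restrPull {G : EtCoh.Ab S} {M : EtCoh.Ab V} (k : (EtShriek.restrAlong v).obj G ⟶ M) :
    (EtCoh.pullPushAdj v).homEquiv _ _ ((restrPullIso v).inv.app G ≫ k) = (restrPushAdj v).homEquiv _ _ k := by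
  rw [Adjunction.homEquiv_naturality_right, restrPullIso, Adjunction.leftAdjointUniq_inv_app,
    Adjunction.homEquiv_leftAdjointUniq_hom_app, ← Adjunction.homEquiv_unit]

theorem bc0_etale (F : EtCoh.Ab T) :
    EtCoh.baseChange0 g v g' t c.w F =
      (restrPullIso v).inv.app ((EtCoh.push g).obj F) ≫ secHom g v g' t c F ≫
        (EtCoh.push g').map ((restrPullIso t).hom.app F) := by
  apply ((EtCoh.pullPushAdj v).homEquiv _ _).injective
  rw [EtCoh.baseChange0, Equiv.apply_symm_apply, homEquiv_restrPull, Adjunction.homEquiv_unit, Functor.map_comp]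
  have hu : (EtCoh.pullPushAdj t).unit.app F =
      (restrPushAdj t).unit.app F ≫ (EtCoh.push t).map ((restrPullIso t).hom.app F) :=
    ((restrPushAdj t).unit_leftAdjointUniq_hom_app (EtCoh.pullPushAdj t) F).symm
  rw [hu, Functor.map_comp, Category.assoc]
  refine ((congrArg (fun z => (EtCoh.push g).map ((restrPushAdj t).unit.app F) ≫ z)
    ((sqIso g v g' t c.w).hom.naturality ((restrPullIso t).hom.app F))).trans
      (Category.assoc _ _ _).symm).trans ((congrArg
        (fun z => z ≫ (EtCoh.push v).map ((EtCoh.push g').map ((restrPullIso t).hom.app F))) ?_).trans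
      (Category.assoc _ _ _))
  apply (sheafToPresheaf S.smallEtaleTopology AddCommGrpCat.{u + 1}).map_injective
  refine NatTrans.ext (funext fun U => ?_)
  show F.obj.map _ ≫ (F.obj.map _ ≫ F.obj.map _ ≫ F.obj.map _) = F.obj.map _ ≫ F.obj.map _
  simp only [← Functor.map_comp]
  refine congrArg (fun m => F.obj.map m) (Quiver.Hom.unop_inj ?_)
  refine bc_hom_ext g ?_
  simp only [unop_comp, NatTrans.op_app, Iso.symm_hom, Iso.symm_inv, Quiver.Hom.unop_op, Functor.op_map, Functor.op_obj,
    Opposite.unop_op, Adjunction.op_unit, left_comp, Category.assoc, counit_fst]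
  erw [MorphismProperty.Over.map_map_left, left_comp, left_comp]
  simp only [Category.assoc]
  erw [comp_fst g t (unop U), congr_inv_fst c.w (unop U), comp_inv_fst v g' (unop U)]
  refine Eq.trans ?_ (congrArg (fun z => ((secObj g v g' t c).inv.app ((EtCoh.bc v).obj (unop U))).left ≫ z)
    (map_fst g ((compBcAdj v).counit.app (unop U))).symm)
  refine Eq.trans ?_ (secObj_inv_fst_assoc g v g' t c ((EtCoh.bc v).obj (unop U)) _).symm
  erw [counit_fst]

theorem isIso_baseChange0_etale (F : EtCoh.Ab T) : IsIso (EtCoh.baseChange0 g v g' t c.w F) := by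
  rw [bc0_etale g v g' t c F]
  infer_instance

/-- Higher direct images commute with etale base change. -/
theorem isIso_bcQ_etale (F : EtCoh.Ab T) (q : ℕ) : IsIso (EtBC.bcQ g v g' t c.w q F) := by
  let I := injectiveResolution F
  let J : InjectiveResolution ((EtCoh.pull t).obj F) :=
    { cocomplex := (Functor.mapHomologicalComplex (EtCoh.pull t) (ComplexShape.up ℕ)).obj I.cocomplex
      injective := fun n => EtStalk.injective_pull t (I.cocomplex.X n)
      ι := RDer.mapAug (EtCoh.pull t) I.ι
      quasiIso := by
        show _root_.QuasiIso ((singleMapHomologicalComplex (EtCoh.pull t) (ComplexShape.up ℕ) 0).inv.app F ≫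
          (Functor.mapHomologicalComplex (EtCoh.pull t) (ComplexShape.up ℕ)).map I.ι)
        infer_instance }
  rw [isIso_bcQ_iff g v g' t c.w F I J (𝟙 _) ((Category.comp_id _).trans (mapAug_f_zero _ _).symm)]
  haveI : ∀ n, IsIso ((ψ g v g' t c.w I.cocomplex J.cocomplex (𝟙 _)).f n) := fun n => by
    haveI := isIso_baseChange0_etale g v g' t c (I.cocomplex.X n)
    show IsIso (EtCoh.baseChange0 g v g' t c.w (I.cocomplex.X n) ≫ (EtCoh.push g').map (𝟙 _))
    infer_instance
  haveI := HomologicalComplex.Hom.isIso_of_components (ψ g v g' t c.w I.cocomplex J.cocomplex (𝟙 _))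
  infer_instance

end Groth.Agent.EtBCQ24
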