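import Groth.Agent.Lib.EtBCQ24.Chain
import Groth.Agent.Lib.BaseChangeH28.Basic

/-!
# The base change morphism for a tower of two squares
-/

set_option autoImplicit false
set_option linter.style.haveILetI false
set_option linter.unusedSectionVars false
set_option backward.isDefEq.respectTransparency false
set_option backward.isDefEq.respectTransparency.types false

universe u

open CategoryTheory CategoryTheory.Limits AlgebraicGeometry HomologicalComplex Opposite

namespace Groth.Agent.EtBCQ24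

variable {X S Y T W Z : Scheme.{u}} (f : X ⟶ S) (g : T ⟶ S) (h : Y ⟶ X) (e : Y ⟶ T)
  (w : e ≫ g = h ≫ f) (i : W ⟶ X) (j : Z ⟶ W) (k : Z ⟶ Y) (w' : k ≫ h = j ≫ i)
  (w'' : (k ≫ e) ≫ g = j ≫ (i ≫ f))

section Coherence

variable {A B C D : Scheme.{u}}

open Groth.Agent.EtStalk

lemma left_comp {U V V' : A.Etale} (φ : U ⟶ V) (ψ : V ⟶ V') : (φ ≫ ψ).left = φ.left ≫ ψ.left := rfl

@[reassoc]
lemma comp_fst (b : B ⟶ C) (a : A ⟶ B) (U : C.Etale) :
    ((MorphismProperty.Over.pullbackComp (P := EtCoh.etaleMP) (Q := ⊤) a b).hom.app U).left ≫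
      bcFst a ((EtCoh.bc b).obj U) ≫ bcFst b U = bcFst (a ≫ b) U := by
  exact MorphismProperty.Over.pullbackComp_left_fst_fst a b U

@[reassoc]
lemma comp_inv_fst (b : B ⟶ C) (a : A ⟶ B) (U : C.Etale) :
    ((MorphismProperty.Over.pullbackComp (P := EtCoh.etaleMP) (Q := ⊤) a b).inv.app U).left ≫
      bcFst (a ≫ b) U = bcFst a ((EtCoh.bc b).obj U) ≫ bcFst b U := by
  rw [← comp_fst b a U]
  refine (Category.assoc _ _ _).symm.trans ((congrArg (fun t => t ≫ _) ((left_comp _ _).symm.trans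
    (congrArg CommaMorphism.left (congrArg MorphismProperty.Comma.Hom.toCommaMorphism
      ((MorphismProperty.Over.pullbackComp (P := EtCoh.etaleMP) (Q := ⊤) a b).inv_hom_id_app U))))).trans ?_)
  exact Category.id_comp _

@[reassoc]
lemma congr_fst {a a' : A ⟶ B} (h : a = a') (U : B.Etale) :
    ((MorphismProperty.Over.pullbackCongr (P := EtCoh.etaleMP) (Q := ⊤) h).hom.app U).left ≫ bcFst a' U = bcFst a U :=
  MorphismProperty.Over.pullbackCongr_hom_app_left_fst h U

@[reassoc]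
lemma congr_inv_fst {a a' : A ⟶ B} (h : a = a') (U : B.Etale) :
    ((MorphismProperty.Over.pullbackCongr (P := EtCoh.etaleMP) (Q := ⊤) h).inv.app U).left ≫ bcFst a U = bcFst a' U := by
  subst h
  simp [MorphismProperty.Over.pullbackCongr]
  exact Category.id_comp _

@[reassoc]
lemma map_fst (a : A ⟶ B) {V W : B.Etale} (φ : V ⟶ W) :
    ((EtCoh.bc a).map φ).left ≫ bcFst a W = bcFst a V ≫ φ.left := by
  exact pullback.lift_fst _ _ _

@[reassoc]
lemma mapComp_fst (k : A ⟶ B) (a : B ⟶ C) (b : C ⟶ D) (U : D.Etale) :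
    ((EtCoh.bc k).map ((MorphismProperty.Over.pullbackComp (P := EtCoh.etaleMP) (Q := ⊤) a b).hom.app U)).left ≫
      bcFst k ((EtCoh.bc a).obj ((EtCoh.bc b).obj U)) ≫ bcFst a ((EtCoh.bc b).obj U) ≫ bcFst b U =
      bcFst k ((EtCoh.bc (a ≫ b)).obj U) ≫ bcFst (a ≫ b) U :=
  (map_fst_assoc k ((MorphismProperty.Over.pullbackComp (P := EtCoh.etaleMP) (Q := ⊤) a b).hom.app U) _).trans
    (congrArg (bcFst k ((EtCoh.bc (a ≫ b)).obj U) ≫ ·) (comp_fst b a U))

@[reassoc]
lemma mapCompInv_fst (k : A ⟶ B) (a : B ⟶ C) (b : C ⟶ D) (U : D.Etale) :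
    ((EtCoh.bc k).map ((MorphismProperty.Over.pullbackComp (P := EtCoh.etaleMP) (Q := ⊤) a b).inv.app U)).left ≫
      bcFst k ((EtCoh.bc (a ≫ b)).obj U) ≫ bcFst (a ≫ b) U =
      bcFst k ((EtCoh.bc a).obj ((EtCoh.bc b).obj U)) ≫ bcFst a ((EtCoh.bc b).obj U) ≫ bcFst b U :=
  (map_fst_assoc k ((MorphismProperty.Over.pullbackComp (P := EtCoh.etaleMP) (Q := ⊤) a b).inv.app U) _).trans
    (congrArg (bcFst k ((EtCoh.bc a).obj ((EtCoh.bc b).obj U)) ≫ ·) (comp_inv_fst b a U))

@[reassoc]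
lemma mapCongrInv_fst (k : A ⟶ B) {a a' : B ⟶ C} (h : a = a') (U : C.Etale) :
    ((EtCoh.bc k).map ((MorphismProperty.Over.pullbackCongr (P := EtCoh.etaleMP) (Q := ⊤) h).inv.app U)).left ≫
      bcFst k ((EtCoh.bc a).obj U) ≫ bcFst a U = bcFst k ((EtCoh.bc a').obj U) ≫ bcFst a' U :=
  (map_fst_assoc k ((MorphismProperty.Over.pullbackCongr (P := EtCoh.etaleMP) (Q := ⊤) h).inv.app U) _).trans
    (congrArg (bcFst k ((EtCoh.bc a').obj U) ≫ ·) (congr_inv_fst h U))

lemma ext3 (a : A ⟶ B) (b : B ⟶ C) (c : C ⟶ D) {V : A.Etale} {U : D.Etale}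
    (φ ψ : V ⟶ (EtCoh.bc a).obj ((EtCoh.bc b).obj ((EtCoh.bc c).obj U)))
    (h : φ.left ≫ bcFst a _ ≫ bcFst b _ ≫ bcFst c U = ψ.left ≫ bcFst a _ ≫ bcFst b _ ≫ bcFst c U) : φ = ψ := by
  have hs : φ.left ≫ pullback.snd ((EtCoh.bc b).obj ((EtCoh.bc c).obj U)).hom a =
      ψ.left ≫ pullback.snd ((EtCoh.bc b).obj ((EtCoh.bc c).obj U)).hom a := (MorphismProperty.Over.w φ).trans (MorphismProperty.Over.w ψ).symm
  have ha : bcFst a ((EtCoh.bc b).obj ((EtCoh.bc c).obj U)) ≫ pullback.snd ((EtCoh.bc c).obj U).hom b =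
      pullback.snd ((EtCoh.bc b).obj ((EtCoh.bc c).obj U)).hom a ≫ a := pullback.condition
  have hb : bcFst b ((EtCoh.bc c).obj U) ≫ pullback.snd U.hom c =
      pullback.snd ((EtCoh.bc c).obj U).hom b ≫ b := pullback.condition
  have hsa : (φ.left ≫ bcFst a _) ≫ pullback.snd ((EtCoh.bc c).obj U).hom b =
      (ψ.left ≫ bcFst a _) ≫ pullback.snd ((EtCoh.bc c).obj U).hom b :=
    (Category.assoc _ _ _).trans ((congrArg (φ.left ≫ ·) ha).trans (((Category.assoc _ _ _).symm.trans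
      ((congrArg (· ≫ a) hs).trans (Category.assoc _ _ _))).trans ((congrArg (ψ.left ≫ ·) ha.symm).trans
      (Category.assoc _ _ _).symm)))
  refine MorphismProperty.Over.Hom.ext (pullback.hom_ext (pullback.hom_ext (pullback.hom_ext ?_ ?_) hsa) hs)
  · exact (Category.assoc _ _ _).trans ((Category.assoc _ _ _).trans (h.trans ((Category.assoc _ _ _).symm.trans
      (Category.assoc _ _ _).symm)))
  · refine (Category.assoc _ _ _).trans ((congrArg ((φ.left ≫ bcFst a _) ≫ ·) hb).trans (Eq.trans ?_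
      ((congrArg ((ψ.left ≫ bcFst a _) ≫ ·) hb.symm).trans (Category.assoc _ _ _).symm)))
    exact (Category.assoc _ _ _).symm.trans ((congrArg (· ≫ b) hsa).trans (Category.assoc _ _ _))

end Coherence

/-- The coherence of the identifications of composite direct images. -/
theorem sqIso_comp (G : EtCoh.Ab Z) :
    (EtCoh.push g).map ((EtCoh.pushComp e k).hom.app G) ≫ (sqIso g (i ≫ f) j (k ≫ e) w'').hom.app G =
      (sqIso g f h e w).hom.app ((EtCoh.push k).obj G) ≫ (EtCoh.push f).map ((sqIso h i j k w').hom.app G) ≫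
        (EtCoh.pushComp f i).hom.app ((EtCoh.push j).obj G) := by
  apply (sheafToPresheaf S.smallEtaleTopology AddCommGrpCat.{u + 1}).map_injective
  refine NatTrans.ext (funext fun U => ?_)
  show G.obj.map _ ≫ (G.obj.map _ ≫ G.obj.map _ ≫ G.obj.map _) =
    (G.obj.map _ ≫ G.obj.map _ ≫ G.obj.map _) ≫ (G.obj.map _ ≫ G.obj.map _ ≫ G.obj.map _) ≫ G.obj.map _
  simp only [← Functor.map_comp, ← op_comp]
  refine congrArg (fun m => G.obj.map (Quiver.Hom.op m)) ?_
  refine ext3 k e g _ _ ?_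
  simp only [unop_comp, NatTrans.op_app, Iso.symm_hom, Iso.symm_inv, Quiver.Hom.unop_op, Functor.op_map, Functor.op_obj,
    Opposite.unop_op, Functor.map_comp]
  simp only [left_comp, Category.assoc, comp_fst, comp_fst_assoc, comp_inv_fst, comp_inv_fst_assoc, congr_fst, congr_fst_assoc,
    congr_inv_fst, congr_inv_fst_assoc, map_fst, map_fst_assoc]
  simp only [mapComp_fst, mapCompInv_fst, mapCongrInv_fst, comp_fst_assoc, comp_inv_fst_assoc, congr_inv_fst_assoc,
    comp_fst, congr_inv_fst, comp_inv_fst]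

theorem bc0_comp (F : EtCoh.Ab T) :
    EtCoh.baseChange0 g (i ≫ f) j (k ≫ e) w'' F =
      (EtCore.pullComp i f).hom.app ((EtCoh.push g).obj F) ≫
        (EtCoh.pull i).map (EtCoh.baseChange0 g f h e w F) ≫
        EtCoh.baseChange0 h i j k w' ((EtCoh.pull e).obj F) ≫
        (EtCoh.push j).map ((EtCore.pullComp k e).inv.app F) := by
  apply ((EtCoh.pullPushAdj (i ≫ f)).homEquiv _ _).injective
  rw [BaseChangeH28.homEquiv_pullComp, Adjunction.homEquiv_naturality_left, Adjunction.homEquiv_naturality_right,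
    Adjunction.homEquiv_naturality_right]
  simp only [EtCoh.baseChange0, Equiv.apply_symm_apply]
  have hη : (EtCoh.pullPushAdj (k ≫ e)).unit.app F =
      ((EtCoh.pullPushAdj e).unit.app F ≫ (EtCoh.push e).map ((EtCoh.pullPushAdj k).unit.app _)) ≫
        (EtCoh.pushComp e k).hom.app _ ≫ (EtCoh.push (k ≫ e)).map ((EtCore.pullComp k e).inv.app F) := by
    have h1 := BaseChangeH28.homEquiv_pullComp k e F _ (𝟙 ((EtCoh.pull k).obj ((EtCoh.pull e).obj F)))
    erw [Category.comp_id] at h1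
    rw [Adjunction.homEquiv_id, Adjunction.homEquiv_unit, Adjunction.homEquiv_unit] at h1
    rw [← Category.assoc _ _ ((EtCoh.push (k ≫ e)).map _)]
    erw [← h1]
    erw [Category.assoc, ← Functor.map_comp, Iso.hom_inv_id_app]
    rw [CategoryTheory.Functor.map_id]
    exact (Category.comp_id _).symm
  rw [hη]
  set A := (EtCoh.pull k).obj ((EtCoh.pull e).obj F)
  set B := (EtCoh.pull (k ≫ e)).obj F
  set p : A ⟶ B := (EtCore.pullComp k e).inv.app F
  have hn : (EtCoh.push g).map ((EtCoh.push (k ≫ e)).map p) ≫ (sqIso g (i ≫ f) j (k ≫ e) w'').hom.app B =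
      (sqIso g (i ≫ f) j (k ≫ e) w'').hom.app A ≫ (EtCoh.push (i ≫ f)).map ((EtCoh.push j).map p) :=
    (sqIso g (i ≫ f) j (k ≫ e) w'').hom.naturality p
  have hk := (sqIso g f h e w).hom.naturality ((EtCoh.pullPushAdj k).unit.app ((EtCoh.pull e).obj F))
  simp only [sqIso, Iso.trans_hom, Iso.symm_hom, NatTrans.comp_app, Functor.comp_map] at hn hk
  have hc := sqIso_comp f g h e w i j k w' w'' A
  simp only [sqIso, Iso.trans_hom, Iso.symm_hom, NatTrans.comp_app] at hc
  simp only [Functor.map_comp, Category.assoc] at hn hk hc ⊢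
  erw [hn, reassoc_of% hc, reassoc_of% hk]
  have hf := (EtCoh.pushComp f i).hom.naturality ((EtCoh.push j).map p)
  simp only [Functor.comp_map] at hf
  erw [← hf]

end Groth.Agent.EtBCQ24

namespace Groth.Agent.EtBCQ24

variable {X S Y T W Z : Scheme.{u}} (f : X ⟶ S) (g : T ⟶ S) (h : Y ⟶ X) (e : Y ⟶ T)
  (w : e ≫ g = h ≫ f) (i : W ⟶ X) (j : Z ⟶ W) (k : Z ⟶ Y) (w' : k ≫ h = j ≫ i)
  (w'' : (k ≫ e) ≫ g = j ≫ (i ≫ f))

local notation "cx" F => Functor.mapHomologicalComplex F (ComplexShape.up ℕ)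

/-- The maps of complexes of a tower of two squares. -/
theorem ψ_comp (I : CochainComplex (EtCoh.Ab T) ℕ) (J : CochainComplex (EtCoh.Ab Y) ℕ)
    (K : CochainComplex (EtCoh.Ab Z) ℕ) (χ : (cx (EtCoh.pull e)).obj I ⟶ J) (χ' : (cx (EtCoh.pull k)).obj J ⟶ K) :
    ψ g (i ≫ f) j (k ≫ e) w'' I K
        ((NatTrans.mapHomologicalComplex (EtCore.pullComp k e).hom (ComplexShape.up ℕ)).app I ≫
          (cx (EtCoh.pull k)).map χ ≫ χ') =
      (NatTrans.mapHomologicalComplex (EtCore.pullComp i f).hom (ComplexShape.up ℕ)).app ((cx (EtCoh.push g)).obj I) ≫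
        (cx (EtCoh.pull i)).map (ψ g f h e w I J χ) ≫ ψ h i j k w' J K χ' := by
  refine HomologicalComplex.hom_ext _ _ fun n => ?_
  show EtCoh.baseChange0 g (i ≫ f) j (k ≫ e) w'' (I.X n) ≫
      (EtCoh.push j).map ((EtCore.pullComp k e).hom.app (I.X n) ≫ (EtCoh.pull k).map (χ.f n) ≫ χ'.f n) =
    (EtCore.pullComp i f).hom.app ((EtCoh.push g).obj (I.X n)) ≫
      (EtCoh.pull i).map (EtCoh.baseChange0 g f h e w (I.X n) ≫ (EtCoh.push h).map (χ.f n)) ≫
      EtCoh.baseChange0 h i j k w' (J.X n) ≫ (EtCoh.push j).map (χ'.f n)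
  have hc : (EtCoh.push j).map ((EtCore.pullComp k e).inv.app (I.X n)) ≫
      (EtCoh.push j).map ((EtCore.pullComp k e).hom.app (I.X n)) = 𝟙 _ := by
    rw [← Functor.map_comp, Iso.inv_hom_id_app, CategoryTheory.Functor.map_id]
  have hn : (EtCoh.pull i).map ((EtCoh.push h).map (χ.f n)) ≫ EtCoh.baseChange0 h i j k w' (J.X n) =
      EtCoh.baseChange0 h i j k w' ((EtCoh.pull e).obj (I.X n)) ≫ (EtCoh.push j).map ((EtCoh.pull k).map (χ.f n)) :=
    (bc0N h i j k w').naturality (χ.f n)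
  rw [bc0_comp f g h e w i j k w' w'']
  simp only [Functor.map_comp, Category.assoc]
  erw [reassoc_of% hc, reassoc_of% hn]

/-- The lift for a composite. -/
theorem ι_pullComp (F : EtCoh.Ab T) :
    (EtCoh.pull (k ≫ e)).map ((injectiveResolution F).ι.f 0) ≫
        ((NatTrans.mapHomologicalComplex (EtCore.pullComp k e).hom (ComplexShape.up ℕ)).app
          (injectiveResolution F).cocomplex ≫ (cx (EtCoh.pull k)).map (χK e F) ≫ χK k ((EtCoh.pull e).obj F)).f 0 =
      ((CochainComplex.single₀ (EtCoh.Ab Z)).map ((EtCore.pullComp k e).hom.app F) ≫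
        (injectiveResolution ((EtCoh.pull k).obj ((EtCoh.pull e).obj F))).ι).f 0 := by
  let I := injectiveResolution F
  have hJ : ((CochainComplex.single₀ (EtCoh.Ab Z)).map ((EtCore.pullComp k e).hom.app F) ≫
        (injectiveResolution ((EtCoh.pull k).obj ((EtCoh.pull e).obj F))).ι).f 0 =
      (EtCore.pullComp k e).hom.app F ≫ (injectiveResolution ((EtCoh.pull k).obj ((EtCoh.pull e).obj F))).ι.f 0 := by
    simp
  rw [hJ]
  show (EtCoh.pull (k ≫ e)).map (I.ι.f 0) ≫ (EtCore.pullComp k e).hom.app (I.cocomplex.X 0) ≫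
    (EtCoh.pull k).map ((χK e F).f 0) ≫ (χK k ((EtCoh.pull e).obj F)).f 0 = _
  refine (NatTrans.naturality_assoc (EtCore.pullComp k e).hom (I.ι.f 0) _).trans ?_
  refine congrArg (fun z => (EtCore.pullComp k e).hom.app F ≫ z) ?_
  refine (Category.assoc _ _ _).symm.trans ((congrArg (fun z => z ≫ (χK k ((EtCoh.pull e).obj F)).f 0)
    (((EtCoh.pull k).map_comp _ _).symm.trans (congrArg (fun z => (EtCoh.pull k).map z) (ι_χK e F)))).trans
    (ι_χK k ((EtCoh.pull e).obj F)))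

theorem isIso_bcQ_comp (F : EtCoh.Ab T) (q : ℕ) (h1 : IsIso (EtBC.bcQ g f h e w q F))
    (h2 : IsIso (EtBC.bcQ h i j k w' q ((EtCoh.pull e).obj F))) :
    IsIso (EtBC.bcQ g (i ≫ f) j (k ≫ e) w'' q F) := by
  let I := injectiveResolution F
  let J := injectiveResolution ((EtCoh.pull e).obj F)
  let J' := injectiveResolution ((EtCoh.pull k).obj ((EtCoh.pull e).obj F))
  let J'' : InjectiveResolution ((EtCoh.pull (k ≫ e)).obj F) :=
    { cocomplex := J'.cocomplex
      injective := J'.injective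
      ι := (CochainComplex.single₀ (EtCoh.Ab Z)).map ((EtCore.pullComp k e).hom.app F) ≫ J'.ι }
  let χ'' : (cx (EtCoh.pull (k ≫ e))).obj I.cocomplex ⟶ J''.cocomplex :=
    (NatTrans.mapHomologicalComplex (EtCore.pullComp k e).hom (ComplexShape.up ℕ)).app I.cocomplex ≫
      (cx (EtCoh.pull k)).map (χK e F) ≫ χK k ((EtCoh.pull e).obj F)
  have hχ : (EtCoh.pull (k ≫ e)).map (I.ι.f 0) ≫ χ''.f 0 = J''.ι.f 0 := ι_pullComp e k F
  rw [isIso_bcQ_iff g f h e w F I J (χK e F) (ι_χK e F)] at h1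
  rw [isIso_bcQ_iff h i j k w' _ J J' (χK k _) (ι_χK k _)] at h2
  rw [isIso_bcQ_iff g (i ≫ f) j (k ≫ e) w'' F I J'' χ'' hχ]
  show IsIso (homologyMap (ψ g (i ≫ f) j (k ≫ e) w'' I.cocomplex J'.cocomplex
    ((NatTrans.mapHomologicalComplex (EtCore.pullComp k e).hom (ComplexShape.up ℕ)).app I.cocomplex ≫
      (cx (EtCoh.pull k)).map (χK e F) ≫ χK k ((EtCoh.pull e).obj F))) q)
  rw [ψ_comp f g h e w i j k w' w'' _ J.cocomplex, homologyMap_comp, homologyMap_comp]
  haveI : IsIso (homologyMap ((cx (EtCoh.pull i)).map (ψ g f h e w _ _ (χK e F))) q) := by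
    rw [← quasiIsoAt_iff_isIso_homologyMap] at h1 ⊢
    infer_instance
  haveI : IsIso ((NatTrans.mapHomologicalComplex (EtCore.pullComp i f).hom (ComplexShape.up ℕ)).app
      ((cx (EtCoh.push g)).obj I.cocomplex)) := by
    haveI : ∀ n, IsIso (((NatTrans.mapHomologicalComplex (EtCore.pullComp i f).hom (ComplexShape.up ℕ)).app
      ((cx (EtCoh.push g)).obj I.cocomplex)).f n) := fun n => by
        show IsIso ((EtCore.pullComp i f).hom.app _)
        infer_instance
    exact HomologicalComplex.Hom.isIso_of_components _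
  infer_instance

end Groth.Agent.EtBCQ24
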