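import Groth.Agent.Lib.EtBCQ24.Local
import Groth.Agent.Lib.EtBCQ24.FirstDegree
import Groth.Agent.Lib.EtStalk.IntegralBC

/-!
# Base change and integral morphisms
-/

set_option autoImplicit false
set_option linter.style.haveILetI false
set_option linter.unusedSectionVars false
set_option backward.isDefEq.respectTransparency false
set_option backward.isDefEq.respectTransparency.types false

universe u

open CategoryTheory CategoryTheory.Limits AlgebraicGeometry Opposite HomologicalComplex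
open Groth.Agent.EtStalk

namespace Groth.Agent.EtBCQ24

local notation "cx" F => Functor.mapHomologicalComplex F (ComplexShape.up ℕ)

lemma ext2 {A B C : Scheme.{u}} (a : A ⟶ B) (b : B ⟶ C) {V : A.Etale} {U : C.Etale}
    (φ ψ : V ⟶ (EtCoh.bc a).obj ((EtCoh.bc b).obj U))
    (h : φ.left ≫ bcFst a _ ≫ bcFst b U = ψ.left ≫ bcFst a _ ≫ bcFst b U) : φ = ψ := by
  have hs : φ.left ≫ pullback.snd ((EtCoh.bc b).obj U).hom a = ψ.left ≫ pullback.snd ((EtCoh.bc b).obj U).hom a :=
    (MorphismProperty.Over.w φ).trans (MorphismProperty.Over.w ψ).symm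
  have ha : bcFst a ((EtCoh.bc b).obj U) ≫ pullback.snd U.hom b =
      pullback.snd ((EtCoh.bc b).obj U).hom a ≫ a := pullback.condition
  refine bc_hom_ext a (pullback.hom_ext ((Category.assoc _ _ _).trans (h.trans (Category.assoc _ _ _).symm)) ?_)
  exact (Category.assoc _ _ _).trans ((congrArg (φ.left ≫ ·) ha).trans (((Category.assoc _ _ _).symm.trans
    ((congrArg (· ≫ a) hs).trans (Category.assoc _ _ _))).trans ((congrArg (ψ.left ≫ ·) ha.symm).trans
    (Category.assoc _ _ _).symm)))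

section Paste

variable {X S Y T R Q : Scheme.{u}} (f : X ⟶ S) (g : T ⟶ S) (h : Y ⟶ X) (e : Y ⟶ T)
  (w : e ≫ g = h ≫ f) (π : R ⟶ T) (π' : Q ⟶ Y) (e' : Q ⟶ R) (w' : e' ≫ π = π' ≫ e)
  (w'' : e' ≫ (π ≫ g) = (π' ≫ h) ≫ f)

theorem sqIso_paste (G : EtCoh.Ab Q) :
    (sqIso (π ≫ g) f (π' ≫ h) e' w'').hom.app G =
      (EtCoh.pushComp g π).inv.app ((EtCoh.push e').obj G) ≫ (EtCoh.push g).map ((sqIso π e π' e' w').hom.app G) ≫
        (sqIso g f h e w).hom.app ((EtCoh.push π').obj G) ≫ (EtCoh.push f).map ((EtCoh.pushComp h π').hom.app G) := by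
  apply (sheafToPresheaf S.smallEtaleTopology AddCommGrpCat.{u + 1}).map_injective
  refine NatTrans.ext (funext fun U => ?_)
  show G.obj.map _ ≫ G.obj.map _ ≫ G.obj.map _ =
    G.obj.map _ ≫ (G.obj.map _ ≫ G.obj.map _ ≫ G.obj.map _) ≫ (G.obj.map _ ≫ G.obj.map _ ≫ G.obj.map _) ≫ G.obj.map _
  simp only [← Functor.map_comp]
  refine congrArg (fun m => G.obj.map m) (Quiver.Hom.unop_inj ?_)
  refine ext2 e' (π ≫ g) _ _ ?_
  simp only [unop_comp, NatTrans.op_app, Iso.symm_hom, Iso.symm_inv, Quiver.Hom.unop_op, Functor.op_map, Functor.op_obj,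
    Opposite.unop_op, Functor.map_comp]
  simp only [left_comp, Category.assoc, comp_fst, comp_fst_assoc, comp_inv_fst, comp_inv_fst_assoc, congr_fst, congr_fst_assoc,
    congr_inv_fst, congr_inv_fst_assoc, map_fst, map_fst_assoc]
  erw [comp_fst_assoc π e' ((EtCoh.bc g).obj (unop U)) (bcFst g (unop U))]
  erw [congr_inv_fst_assoc w' ((EtCoh.bc g).obj (unop U)) (bcFst g (unop U))]
  erw [comp_inv_fst_assoc e π' ((EtCoh.bc g).obj (unop U)) (bcFst g (unop U))]
  simp only [mapComp_fst, mapCongrInv_fst, mapCompInv_fst]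
  erw [comp_fst_assoc]

theorem bc0_paste (F : EtCoh.Ab R) :
    EtCoh.baseChange0 (π ≫ g) f (π' ≫ h) e' w'' F =
      (EtCoh.pull f).map ((EtCoh.pushComp g π).inv.app F) ≫
        EtCoh.baseChange0 g f h e w ((EtCoh.push π).obj F) ≫
        (EtCoh.push h).map (EtCoh.baseChange0 π e π' e' w' F) ≫
        (EtCoh.pushComp h π').hom.app ((EtCoh.pull e').obj F) := by
  apply ((EtCoh.pullPushAdj f).homEquiv _ _).injective
  rw [Adjunction.homEquiv_naturality_left, Adjunction.homEquiv_naturality_right]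
  simp only [EtCoh.baseChange0, Equiv.apply_symm_apply]
  have ht : (EtCoh.pullPushAdj e).unit.app ((EtCoh.push π).obj F) ≫
      (EtCoh.push e).map (((EtCoh.pullPushAdj e).homEquiv _ _).symm
        ((EtCoh.push π).map ((EtCoh.pullPushAdj e').unit.app F) ≫ (sqIso π e π' e' w').hom.app ((EtCoh.pull e').obj F))) =
      (EtCoh.push π).map ((EtCoh.pullPushAdj e').unit.app F) ≫ (sqIso π e π' e' w').hom.app ((EtCoh.pull e').obj F) := by
    exact ((EtCoh.pullPushAdj e).homEquiv_unit _ _ _).symm.trans (Equiv.apply_symm_apply _ _)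
  set B := (EtCoh.pull e').obj F
  set m := ((EtCoh.pullPushAdj e).homEquiv _ _).symm
    ((EtCoh.push π).map ((EtCoh.pullPushAdj e').unit.app F) ≫ (sqIso π e π' e' w').hom.app B)
  have hs := (sqIso g f h e w).hom.naturality m
  have hc := (EtCoh.pushComp g π).inv.naturality ((EtCoh.pullPushAdj e').unit.app F)
  have hp := sqIso_paste f g h e w π π' e' w' w'' B
  simp only [sqIso, Iso.trans_hom, Iso.symm_hom, NatTrans.comp_app, Functor.comp_map, Functor.map_comp, Category.assoc] at hs hc hp m ht ⊢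
  erw [Equiv.apply_symm_apply]
  simp only [Category.assoc]
  erw [← reassoc_of% hs, ← Functor.map_comp_assoc, ht, Functor.map_comp, Category.assoc, hp]
  simp only [Category.assoc]
  erw [reassoc_of% hc]
  simp only [Functor.map_comp, Category.assoc]
  rfl

theorem ψ_paste (I : CochainComplex (EtCoh.Ab R) ℕ) (J : CochainComplex (EtCoh.Ab Q) ℕ)
    (χ : (cx (EtCoh.pull e')).obj I ⟶ J) :
    (cx (EtCoh.pull f)).map ((NatTrans.mapHomologicalComplex (EtCoh.pushComp g π).hom (ComplexShape.up ℕ)).app I) ≫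
        ψ (π ≫ g) f (π' ≫ h) e' w'' I J χ =
      ψ g f h e w ((cx (EtCoh.push π)).obj I) ((cx (EtCoh.push π')).obj J) (ψ π e π' e' w' I J χ) ≫
        (NatTrans.mapHomologicalComplex (EtCoh.pushComp h π').hom (ComplexShape.up ℕ)).app J := by
  refine HomologicalComplex.hom_ext _ _ fun n => ?_
  show (EtCoh.pull f).map ((EtCoh.pushComp g π).hom.app (I.X n)) ≫
      EtCoh.baseChange0 (π ≫ g) f (π' ≫ h) e' w'' (I.X n) ≫ (EtCoh.push (π' ≫ h)).map (χ.f n) =
    (EtCoh.baseChange0 g f h e w ((EtCoh.push π).obj (I.X n)) ≫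
      (EtCoh.push h).map (EtCoh.baseChange0 π e π' e' w' (I.X n) ≫ (EtCoh.push π').map (χ.f n))) ≫
      (EtCoh.pushComp h π').hom.app (J.X n)
  have hc : (EtCoh.pull f).map ((EtCoh.pushComp g π).hom.app (I.X n)) ≫
      (EtCoh.pull f).map ((EtCoh.pushComp g π).inv.app (I.X n)) = 𝟙 _ := by
    rw [← Functor.map_comp, Iso.hom_inv_id_app, CategoryTheory.Functor.map_id]
  have hn : (EtCoh.push h).map ((EtCoh.push π').map (χ.f n)) ≫ (EtCoh.pushComp h π').hom.app (J.X n) =
      (EtCoh.pushComp h π').hom.app _ ≫ (EtCoh.push (π' ≫ h)).map (χ.f n) :=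
    (EtCoh.pushComp h π').hom.naturality (χ.f n)
  rw [bc0_paste f g h e w π π' e' w' w'']
  simp only [Functor.map_comp, Category.assoc]
  erw [reassoc_of% hc, hn]
  rfl

/-- The lift induced on direct images along integral morphisms. -/
theorem isIso_homologyMap_paste_iff (I : CochainComplex (EtCoh.Ab R) ℕ) (J : CochainComplex (EtCoh.Ab Q) ℕ)
    (χ : (cx (EtCoh.pull e')).obj I ⟶ J) (q : ℕ) :
    IsIso (homologyMap (ψ (π ≫ g) f (π' ≫ h) e' w'' I J χ) q) ↔
      IsIso (homologyMap (ψ g f h e w ((cx (EtCoh.push π)).obj I) ((cx (EtCoh.push π')).obj J)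
        (ψ π e π' e' w' I J χ)) q) := by
  haveI h1 : ∀ n, IsIso (((cx (EtCoh.pull f)).map
      ((NatTrans.mapHomologicalComplex (EtCoh.pushComp g π).hom (ComplexShape.up ℕ)).app I)).f n) := fun n => by
    show IsIso ((EtCoh.pull f).map ((EtCoh.pushComp g π).hom.app (I.X n)))
    infer_instance
  haveI h2 : ∀ n, IsIso (((NatTrans.mapHomologicalComplex (EtCoh.pushComp h π').hom (ComplexShape.up ℕ)).app J).f n) :=
    fun n => by
      show IsIso ((EtCoh.pushComp h π').hom.app (J.X n))
      infer_instance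
  haveI := HomologicalComplex.Hom.isIso_of_components ((cx (EtCoh.pull f)).map
    ((NatTrans.mapHomologicalComplex (EtCoh.pushComp g π).hom (ComplexShape.up ℕ)).app I))
  haveI := HomologicalComplex.Hom.isIso_of_components
    ((NatTrans.mapHomologicalComplex (EtCoh.pushComp h π').hom (ComplexShape.up ℕ)).app J)
  rw [← isIso_comp_left_iff (homologyMap ((cx (EtCoh.pull f)).map
    ((NatTrans.mapHomologicalComplex (EtCoh.pushComp g π).hom (ComplexShape.up ℕ)).app I)) q),
    ← homologyMap_comp, ψ_paste f g h e w π π' e' w' w'', homologyMap_comp, isIso_comp_right_iff]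

include w' in
/-- Base change for the direct image along an integral morphism and for the composite agree. -/
theorem isIso_bcQ_push_integral [IsIntegralHom π] [IsIntegralHom π'] (c : IsPullback e' π' π e) (F : EtCoh.Ab R) (q : ℕ) :
    IsIso (EtBC.bcQ (π ≫ g) f (π' ≫ h) e' w'' q F) ↔ IsIso (EtBC.bcQ g f h e w q ((EtCoh.push π).obj F)) := by
  haveI := preservesFiniteColimits_push_integral π
  haveI := preservesFiniteColimits_push_integral π'
  let I := injectiveResolution F
  let J := injectiveResolution ((EtCoh.pull e').obj F)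
  let I' : InjectiveResolution ((EtCoh.push π).obj F) :=
    { cocomplex := (cx (EtCoh.push π)).obj I.cocomplex
      injective := fun n => EtStalk.injective_push π (I.cocomplex.X n)
      ι := RDer.mapAug (EtCoh.push π) I.ι
      quasiIso := by
        show _root_.QuasiIso ((singleMapHomologicalComplex (EtCoh.push π) (ComplexShape.up ℕ) 0).inv.app F ≫
          (cx (EtCoh.push π)).map I.ι)
        infer_instance }
  haveI := EtStalk.isIso_baseChange0_integral π e π' e' c F
  let J' : InjectiveResolution ((EtCoh.pull e).obj ((EtCoh.push π).obj F)) :=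
    { cocomplex := (cx (EtCoh.push π')).obj J.cocomplex
      injective := fun n => EtStalk.injective_push π' (J.cocomplex.X n)
      ι := (CochainComplex.single₀ (EtCoh.Ab Y)).map (EtCoh.baseChange0 π e π' e' c.w F) ≫ RDer.mapAug (EtCoh.push π') J.ι
      quasiIso := by
        haveI : _root_.QuasiIso (RDer.mapAug (EtCoh.push π') J.ι) := by
          show _root_.QuasiIso ((singleMapHomologicalComplex (EtCoh.push π') (ComplexShape.up ℕ) 0).inv.app _ ≫
            (cx (EtCoh.push π')).map J.ι)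
          infer_instance
        infer_instance }
  have hχ : (EtCoh.pull e).map (I'.ι.f 0) ≫ (ψ π e π' e' w' I.cocomplex J.cocomplex (χK e' F)).f 0 = J'.ι.f 0 := by
    have hn : (EtCoh.pull e).map ((EtCoh.push π).map (I.ι.f 0)) ≫ EtCoh.baseChange0 π e π' e' w' (I.cocomplex.X 0) =
        EtCoh.baseChange0 π e π' e' w' F ≫ (EtCoh.push π').map ((EtCoh.pull e').map (I.ι.f 0)) :=
      (bc0N π e π' e' w').naturality (I.ι.f 0)
    simp only [I', J', mapAug_f_zero, comp_f, CochainComplex.single₀_map_f_zero]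
    show (EtCoh.pull e).map ((EtCoh.push π).map (I.ι.f 0)) ≫ EtCoh.baseChange0 π e π' e' w' (I.cocomplex.X 0) ≫
      (EtCoh.push π').map ((χK e' F).f 0) = EtCoh.baseChange0 π e π' e' w' F ≫ (EtCoh.push π').map (J.ι.f 0)
    rw [reassoc_of% hn]
    refine congrArg (fun z => EtCoh.baseChange0 π e π' e' w' F ≫ z) ?_
    exact ((EtCoh.push π').map_comp _ _).symm.trans (congrArg (fun z => (EtCoh.push π').map z) (ι_χK e' F))
  rw [isIso_bcQ_iff (π ≫ g) f (π' ≫ h) e' w'' F I J (χK e' F) (ι_χK e' F),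
    isIso_bcQ_iff g f h e w _ I' J' (ψ π e π' e' w' I.cocomplex J.cocomplex (χK e' F)) hχ,
    isIso_homologyMap_paste_iff f g h e w π π' e' w' w'']

end Paste

section Reflect

variable {A B : Scheme.{u}} (p : A ⟶ B) [IsIntegralHom p]

theorem surjective_liftStalk {Ω : Type u} [Field Ω] [IsAlgClosed Ω] (η : Spec (CommRingCat.of Ω) ⟶ B)
    (l : fLifts p η) (F : EtCoh.Ab A) : Function.Surjective (liftStalk p η l F) := by
  classical
  intro t
  obtain ⟨U, u, P, r, hcl, hm, he⟩ := exists_clopen_rep p η F l t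
  let t' : ∀ l' : fLifts p η, ((EtCoh.stalk l'.1).obj F : Type _) := fun l' =>
    if h : fibPt (liftAt p η u l') ∈ P then germ l'.1 F (subFib (liftAt p η u l') P h) r else 0
  obtain ⟨x, hx⟩ := mem_range_liftStalk p η F t' fun l' => by
    by_cases h : fibPt (liftAt p η u l') ∈ P
    · exact ⟨U, u, P, r, ⊤, hcl, h, trivial, fun l'' _ h'' => by simp only [t']; rw [dif_pos h'']⟩
    · exact ⟨U, u, ⟨(P : Set ((EtCoh.bc p).obj U).left)ᶜ, hcl.isOpen_compl⟩, 0, ⊤, P.isOpen.isClosed_compl, h,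
        trivial, fun l'' _ h'' => by
          simp only [t']; rw [dif_neg (show fibPt (liftAt p η u l'') ∉ P from h'')]; exact map_zero _⟩
  exact ⟨x, ((hx l).trans (dif_pos hm)).trans he⟩

theorem isZero_of_push_integral {G : EtCoh.Ab A} (h : IsZero ((EtCoh.push p).obj G)) : IsZero G := by
  rw [isZero_iff_stalk]
  intro Ω _ _ ξ
  let K := AlgebraicClosure Ω
  let ζ : Spec (CommRingCat.of K) ⟶ A := Spec.map (CommRingCat.ofHom (algebraMap Ω K)) ≫ ξ
  haveI := AddCommGrpCat.subsingleton_of_isZero ((isZero_iff_stalk _).1 h _ (ζ ≫ p))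
  have h0 : Subsingleton ((EtCoh.stalk ζ).obj G) := (surjective_liftStalk p (ζ ≫ p) ⟨ζ, rfl⟩ G).subsingleton
  have e : ξ default = ζ default := congrArg ξ (Subsingleton.elim (α := PrimeSpectrum Ω) _ _)
  have hsur := Constr24.surjective_stalk_congr (0 : G ⟶ G) ξ ζ e fun q => ⟨q, @Subsingleton.elim _ h0 _ _⟩
  haveI : Subsingleton ((EtCoh.stalk ξ).obj G) := subsingleton_of_forall_eq 0 fun q => by
    obtain ⟨r, rfl⟩ := hsur q
    rw [Functor.map_zero]
    rfl
  exact AddCommGrpCat.isZero_of_subsingleton _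

theorem isIso_of_push_integral {F G : EtCoh.Ab A} (φ : F ⟶ G) (h : IsIso ((EtCoh.push p).map φ)) : IsIso φ := by
  haveI := preservesFiniteColimits_push_integral p
  haveI : Mono φ := Preadditive.mono_of_isZero_kernel φ (isZero_of_push_integral p
    ((isZero_kernel_of_mono ((EtCoh.push p).map φ)).of_iso (PreservesKernel.iso (EtCoh.push p) φ)))
  haveI : Epi φ := Preadditive.epi_of_isZero_cokernel φ (isZero_of_push_integral p
    ((isZero_cokernel_of_epi ((EtCoh.push p).map φ)).of_iso (PreservesCokernel.iso (EtCoh.push p) φ)))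
  exact isIso_of_mono_of_epi φ

end Reflect

section Lower

variable {X S Y T S₂ X₂ : Scheme.{u}} (f : X ⟶ S) (π : S₂ ⟶ S) [IsIntegralHom π] (f₂ : X₂ ⟶ S₂) (π' : X₂ ⟶ X)
  (c₂ : IsPullback f₂ π' π f) (g : T ⟶ S₂) (h : Y ⟶ X₂) (e : Y ⟶ T) (w : e ≫ g = h ≫ f₂)
  (w'' : e ≫ (g ≫ π) = (h ≫ π') ≫ f)

include c₂ in
theorem isIso_bcQ_of_integral_base (F : EtCoh.Ab T) (q : ℕ)
    (hiso : IsIso (EtBC.bcQ (g ≫ π) f (h ≫ π') e w'' q F)) : IsIso (EtBC.bcQ g f₂ h e w q F) := by
  haveI : IsIntegralHom π' := MorphismProperty.of_isPullback c₂ ‹_›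
  haveI := preservesFiniteColimits_push_integral π'
  let I := injectiveResolution F
  let J := injectiveResolution ((EtCoh.pull e).obj F)
  let χ := χK e F
  rw [isIso_bcQ_iff (g ≫ π) f (h ≫ π') e w'' F I J χ (ι_χK e F),
    isIso_homologyMap_paste_iff f π π' f₂ c₂.w g h e w w''] at hiso
  rw [isIso_bcQ_iff g f₂ h e w F I J χ (ι_χK e F)]
  let K := (cx (EtCoh.push g)).obj I.cocomplex
  haveI : IsIso ((NatTrans.mapHomologicalComplex (bc0N π f π' f₂ c₂.w) (ComplexShape.up ℕ)).app K) := by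
    haveI : ∀ n, IsIso (((NatTrans.mapHomologicalComplex (bc0N π f π' f₂ c₂.w) (ComplexShape.up ℕ)).app K).f n) :=
      fun n => EtStalk.isIso_baseChange0_integral π f π' f₂ c₂ (K.X n)
    exact HomologicalComplex.Hom.isIso_of_components _
  rw [ψ, homologyMap_comp, isIso_comp_left_iff] at hiso
  apply isIso_of_push_integral π'
  rw [isIso_push_homologyMap_iff]
  exact hiso
where
  isIso_push_homologyMap_iff {A B : Scheme.{u}} {p : A ⟶ B} [PreservesFiniteColimits (EtCoh.push p)]
      {C D : CochainComplex (EtCoh.Ab A) ℕ} (φ : C ⟶ D) (q : ℕ) :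
      IsIso ((EtCoh.push p).map (homologyMap φ q)) ↔
        IsIso (homologyMap ((Functor.mapHomologicalComplex (EtCoh.push p) (ComplexShape.up ℕ)).map φ) q) := by
    have e := ShortComplex.mapHomologyIso_hom_naturality
      ((HomologicalComplex.shortComplexFunctor _ (ComplexShape.up ℕ) q).map φ) (EtCoh.push p)
    exact ((MorphismProperty.isomorphisms _).arrow_mk_iso_iff
      (Arrow.isoMk ((C.sc q).mapHomologyIso (EtCoh.push p)) ((D.sc q).mapHomologyIso (EtCoh.push p)) e.symm :
        Arrow.mk (homologyMap ((Functor.mapHomologicalComplex (EtCoh.push p) (ComplexShape.up ℕ)).map φ) q) ≅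
          Arrow.mk ((EtCoh.push p).map (homologyMap φ q)))).symm

end Lower

end Groth.Agent.EtBCQ24
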