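import Groth.Agent.Lib.EtBCQ24.Hom
import Groth.Agent.Lib.EtStalk.Push
import Groth.Prelude.Def_EtBC2
import Groth.Prelude.Def_EtBCD

/-!
# The degree `q` base change morphism as the homology of a map of complexes
-/

set_option autoImplicit false
set_option linter.style.haveILetI false
set_option linter.unusedSectionVars false
set_option backward.isDefEq.respectTransparency false
set_option backward.isDefEq.respectTransparency.types false

universe u

open CategoryTheory CategoryTheory.Limits AlgebraicGeometry HomologicalComplex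

namespace Groth.Agent.EtBCQ24

section Homotopy

variable {A : Type*} [Category A] [Abelian A]

/-- A map from a resolution to a complex of injectives vanishing on the resolved object is null-homotopic. -/
theorem nonempty_homotopy_zero {Y : A} (K : CochainComplex A ℕ) (ι : (CochainComplex.single₀ A).obj Y ⟶ K) [_root_.QuasiIso ι]
    (L : CochainComplex A ℕ) [∀ n, Injective (L.X n)] (f : K ⟶ L) (h : ι.f 0 ≫ f.f 0 = 0) : Nonempty (Homotopy f 0) := by
  let e₀ := RDer.res_exact₀ K ι
  let e : ∀ n, (ShortComplex.mk _ _ (K.d_comp_d n (n + 1) (n + 2))).Exact := RDer.res_exact_succ K ι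
  let s₀ : K.X 1 ⟶ L.X 0 := e₀.descToInjective (f.f 0) h
  have hs₀ : K.d 0 1 ≫ s₀ = f.f 0 := e₀.comp_descToInjective _ _
  let s₁ : K.X 2 ⟶ L.X 1 := (e 0).descToInjective (f.f 1 - s₀ ≫ L.d 0 1) (by
    show K.d 0 1 ≫ (f.f 1 - s₀ ≫ L.d 0 1) = 0
    rw [Preadditive.comp_sub, reassoc_of% hs₀, f.comm, sub_self])
  have hs₁ : K.d 1 2 ≫ s₁ = f.f 1 - s₀ ≫ L.d 0 1 := (e 0).comp_descToInjective _ _
  refine ⟨Homotopy.mkCoinductive _ s₀ ?_ s₁ ?_ fun n ⟨g, g', w⟩ =>
    ⟨(e (n + 1)).descToInjective (f.f (n + 2) - g' ≫ L.d _ _) ?_, ?_⟩⟩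
  · simp [hs₀]
  · simp [hs₁]
  · show K.d (n + 1) (n + 2) ≫ (f.f (n + 2) - g' ≫ L.d _ _) = 0
    rw [Preadditive.comp_sub, ← HomologicalComplex.Hom.comm, w, Preadditive.add_comp, Category.assoc, Category.assoc,
      HomologicalComplex.d_comp_d, comp_zero]
    abel
  · have := (e (n + 1)).comp_descToInjective (f.f (n + 2) - g' ≫ L.d _ _) (by
      show K.d (n + 1) (n + 2) ≫ (f.f (n + 2) - g' ≫ L.d _ _) = 0
      rw [Preadditive.comp_sub, ← HomologicalComplex.Hom.comm, w, Preadditive.add_comp, Category.assoc, Category.assoc,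
        HomologicalComplex.d_comp_d, comp_zero]
      abel)
    simp only [show n + 1 + 1 = n + 2 from rfl, show n + 1 + 2 = n + 3 from rfl] at this ⊢
    erw [this]
    abel

/-- Two such maps agreeing on the resolved object are homotopic. -/
theorem nonempty_homotopy {Y : A} (K : CochainComplex A ℕ) (ι : (CochainComplex.single₀ A).obj Y ⟶ K) [_root_.QuasiIso ι]
    (L : CochainComplex A ℕ) [∀ n, Injective (L.X n)] (f g : K ⟶ L) (h : ι.f 0 ≫ f.f 0 = ι.f 0 ≫ g.f 0) :
    Nonempty (Homotopy f g) :=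
  ⟨Homotopy.equivSubZero.invFun (nonempty_homotopy_zero K ι L (f - g) (by
    rw [sub_f_apply, Preadditive.comp_sub, h, sub_self])).some⟩

theorem mapAug_f_zero {B : Type*} [Category B] [Abelian B] (Φ : A ⥤ B) [Φ.Additive] {Y : A}
    {I : CochainComplex A ℕ} (ι : (CochainComplex.single₀ A).obj Y ⟶ I) : (RDer.mapAug Φ ι).f 0 = Φ.map (ι.f 0) := by
  simp [RDer.mapAug]

theorem cancel_three {C : Type*} [Category C] {a₀ a₁ a₂ a₃ a₄ a₅ a₆ a₇ a₈ a₉ : C} (a : a₀ ⟶ a₁) (b : a₁ ⟶ a₂)
    (I : a₃ ≅ a₂) (c : a₂ ⟶ a₄) (J : a₅ ≅ a₄) (d : a₄ ⟶ a₆) (K : a₇ ≅ a₆) (e : a₆ ⟶ a₈) (f : a₈ ⟶ a₉) :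
    a ≫ b ≫ I.inv ≫ I.hom ≫ c ≫ J.inv ≫ J.hom ≫ d ≫ K.inv ≫ K.hom ≫ e ≫ f = a ≫ b ≫ c ≫ d ≫ e ≫ f := by
  simp

end Homotopy

variable {X S X' S' : Scheme.{u}} (f : X ⟶ S) (g : S' ⟶ S) (f' : X' ⟶ S') (g' : X' ⟶ X)
  (w : g' ≫ f = f' ≫ g)

local notation "cx" F => Functor.mapHomologicalComplex F (ComplexShape.up ℕ)

/-- The base change morphism in degree zero, as a natural transformation. -/
noncomputable def bc0N : EtCoh.push f ⋙ EtCoh.pull g ⟶ EtCoh.pull g' ⋙ EtCoh.push f' where
  app F := EtCoh.baseChange0 f g f' g' w F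
  naturality F G a := by
    have e : ∀ F, EtCoh.baseChange0 f g f' g' w F =
        ((EtCoh.pullPushAdj g).homEquiv _ _).symm ((EtBC.pushToPushPull f g f' g' w).app F) := fun F => by
      simp [EtCoh.baseChange0, EtBC.pushToPushPull]
    simp only [Functor.comp_map, e]
    exact ((EtCoh.pullPushAdj g).homEquiv_naturality_left_symm _ _).symm.trans
      (Eq.trans (congrArg _ ((EtBC.pushToPushPull f g f' g' w).naturality a))
        ((EtCoh.pullPushAdj g).homEquiv_naturality_right_symm _ _))

variable [PreservesFiniteLimits (EtCoh.pull g')]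

/-- The map of complexes computing the base change morphism. -/
noncomputable def ψ (I : CochainComplex (EtCoh.Ab X) ℕ) (J : CochainComplex (EtCoh.Ab X') ℕ)
    (χ : (cx (EtCoh.pull g')).obj I ⟶ J) :
    (cx (EtCoh.pull g)).obj ((cx (EtCoh.push f)).obj I) ⟶ (cx (EtCoh.push f')).obj J :=
  (NatTrans.mapHomologicalComplex (bc0N f g f' g' w) (ComplexShape.up ℕ)).app I ≫ (cx (EtCoh.push f')).map χ

variable (M : EtCoh.Ab X)

/-- A lift of the unit to the chosen resolutions. -/
noncomputable def φK : (injectiveResolution M).cocomplex ⟶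
    (cx (EtCoh.push g')).obj (injectiveResolution ((EtCoh.pull g').obj M)).cocomplex :=
  InjectiveResolution.desc ((EtCoh.pullPushAdj g').unit.app M)
      (injectiveResolution ((EtCoh.push g').obj ((EtCoh.pull g').obj M))) (injectiveResolution M) ≫
    RDer.descToInjectives (𝟙 ((EtCoh.push g').obj ((EtCoh.pull g').obj M)))
      (injectiveResolution ((EtCoh.push g').obj ((EtCoh.pull g').obj M))).cocomplex
      (injectiveResolution ((EtCoh.push g').obj ((EtCoh.pull g').obj M))).ι
      ((cx (EtCoh.push g')).obj (injectiveResolution ((EtCoh.pull g').obj M)).cocomplex)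
      (RDer.mapAug (EtCoh.push g') (injectiveResolution ((EtCoh.pull g').obj M)).ι)

theorem ι_φK :
    (injectiveResolution M).ι.f 0 ≫ (φK g' M).f 0 = (EtCoh.pullPushAdj g').unit.app M ≫
      (EtCoh.push g').map ((injectiveResolution ((EtCoh.pull g').obj M)).ι.f 0) := by
  refine (Category.assoc _ _ _).symm.trans ((congrArg (fun t => t ≫ _)
    (InjectiveResolution.desc_commutes_zero ((EtCoh.pullPushAdj g').unit.app M)
      (injectiveResolution ((EtCoh.push g').obj ((EtCoh.pull g').obj M))) (injectiveResolution M))).trans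
    ((Category.assoc _ _ _).trans ?_))
  refine congrArg (fun t => (EtCoh.pullPushAdj g').unit.app M ≫ t)
    ((RDer.ι_descToInjectives_f_zero _ _ _ _ _).trans ((Category.id_comp _).trans ?_))
  exact mapAug_f_zero (EtCoh.push g') (injectiveResolution ((EtCoh.pull g').obj M)).ι

/-- The identification of the two composites of direct images. -/
noncomputable abbrev sqIso : EtCoh.push g' ⋙ EtCoh.push f ≅ EtCoh.push f' ⋙ EtCoh.push g :=
  EtCoh.pushComp f g' ≪≫ EtCoh.pushCongr w ≪≫ (EtCoh.pushComp g f').symm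

/-- The transposed map of complexes. -/
noncomputable def ψK : (cx (EtCoh.push f)).obj (injectiveResolution M).cocomplex ⟶
    (cx (EtCoh.push g)).obj ((cx (EtCoh.push f')).obj (injectiveResolution ((EtCoh.pull g').obj M)).cocomplex) :=
  (cx (EtCoh.push f)).map (φK g' M) ≫
    (NatTrans.mapHomologicalComplex (sqIso f g f' g' w).hom (ComplexShape.up ℕ)).app
      (injectiveResolution ((EtCoh.pull g').obj M)).cocomplex

theorem bcQAdj_eq (q : ℕ) :
    EtBC.bcQAdj f g f' g' w q M =
      ((injectiveResolution M).isoRightDerivedObj (EtCoh.push f) q).hom ≫ homologyMap (ψK f g f' g' w M) q ≫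
        RDer.homologyComparison (EtCoh.push g)
          ((cx (EtCoh.push f')).obj (injectiveResolution ((EtCoh.pull g').obj M)).cocomplex) q ≫
        (EtCoh.push g).map ((injectiveResolution ((EtCoh.pull g').obj M)).isoRightDerivedObj (EtCoh.push f') q).inv := by
  let P := injectiveResolution M
  let Q := injectiveResolution ((EtCoh.push g').obj ((EtCoh.pull g').obj M))
  let R := injectiveResolution ((EtCoh.pull g').obj M)
  have e₁ := Functor.rightDerived_map_eq (EtCoh.push f) q ((EtCoh.pullPushAdj g').unit.app M) (P := P) (Q := Q)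
    (InjectiveResolution.desc ((EtCoh.pullPushAdj g').unit.app M) Q P) (InjectiveResolution.desc_commutes _ _ _)
  have e₂ : (EtBC.RpushSquareIso f g f' g' w q).hom.app ((EtCoh.pull g').obj M) =
      (R.isoRightDerivedObj (EtCoh.push g' ⋙ EtCoh.push f) q).hom ≫
        homologyMap ((NatTrans.mapHomologicalComplex (sqIso f g f' g' w).hom (ComplexShape.up ℕ)).app R.cocomplex) q ≫
        (R.isoRightDerivedObj (EtCoh.push f' ⋙ EtCoh.push g) q).inv :=
    InjectiveResolution.rightDerived_app_eq (sqIso f g f' g' w).hom _ q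
  unfold EtBC.bcQAdj RDer.edgeIn RDer.edgeOut
  erw [e₁, e₂]
  simp only [Category.assoc, Iso.inv_hom_id_assoc, Functor.comp_map]
  simp only [ψK, φK, P, Q, R, Functor.map_comp, homologyMap_comp, Category.assoc,
    HomologicalComplex.homologyFunctor_map]
  exact cancel_three _ _ (Q.isoRightDerivedObj (EtCoh.push f) q) _ (R.isoRightDerivedObj (EtCoh.push g' ⋙ EtCoh.push f) q) _
    (R.isoRightDerivedObj (EtCoh.push f' ⋙ EtCoh.push g) q) _ _

variable [PreservesFiniteLimits (EtCoh.pull g)]

noncomputable instance preservesFiniteColimits_pull {A B : Scheme.{u}} (a : A ⟶ B) :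
    PreservesFiniteColimits (EtCoh.pull a) :=
  haveI := (EtCoh.pullPushAdj a).leftAdjoint_preservesColimits
  inferInstance

instance additive_pull {A B : Scheme.{u}} (a : A ⟶ B) : (EtCoh.pull a).Additive :=
  (EtCoh.pullPushAdj a).left_adjoint_additive

instance additive_push {A B : Scheme.{u}} (a : A ⟶ B) : (EtCoh.push a).Additive :=
  (EtCoh.pullPushAdj a).right_adjoint_additive

/-- The chosen lift on the inverse image. -/
noncomputable def χK : (cx (EtCoh.pull g')).obj (injectiveResolution M).cocomplex ⟶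
    (injectiveResolution ((EtCoh.pull g').obj M)).cocomplex :=
  ((KInjLib.adjComplexes (EtCoh.pullPushAdj g') (ComplexShape.up ℕ)).homEquiv _ _).symm (φK g' M)

theorem ι_χK :
    (EtCoh.pull g').map ((injectiveResolution M).ι.f 0) ≫ (χK g' M).f 0 =
      (injectiveResolution ((EtCoh.pull g').obj M)).ι.f 0 := by
  have e : (χK g' M).f 0 = ((EtCoh.pullPushAdj g').homEquiv _ _).symm ((φK g' M).f 0) := by
    rw [χK, Adjunction.homEquiv_counit, Adjunction.homEquiv_counit]
    rfl
  rw [e]
  refine ((EtCoh.pullPushAdj g').homEquiv_naturality_left_symm _ _).symm.trans ?_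
  erw [ι_φK, ← Adjunction.homEquiv_unit, Equiv.symm_apply_apply]

theorem symm_ψK :
    ((KInjLib.adjComplexes (EtCoh.pullPushAdj g) (ComplexShape.up ℕ)).homEquiv _ _).symm (ψK f g f' g' w M) =
      ψ f g f' g' w _ _ (χK g' M) := by
  refine HomologicalComplex.hom_ext _ _ fun n => ?_
  rw [Adjunction.homEquiv_counit, HomologicalComplex.comp_f]
  show (EtCoh.pull g).map ((ψK f g f' g' w M).f n) ≫ (EtCoh.pullPushAdj g).counit.app _ = _
  refine ((EtCoh.pullPushAdj g).homEquiv_counit _ _ _).symm.trans ?_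
  apply ((EtCoh.pullPushAdj g).homEquiv _ _).injective
  rw [Equiv.apply_symm_apply]
  show (EtCoh.push f).map ((φK g' M).f n) ≫ (sqIso f g f' g' w).hom.app _ =
    (EtCoh.pullPushAdj g).homEquiv _ _ (EtCoh.baseChange0 f g f' g' w _ ≫ (EtCoh.push f').map ((χK g' M).f n))
  rw [Adjunction.homEquiv_naturality_right, EtCoh.baseChange0, Equiv.apply_symm_apply]
  have hχ : (φK g' M).f n = (EtCoh.pullPushAdj g').unit.app _ ≫ (EtCoh.push g').map ((χK g' M).f n) := by
    refine Eq.trans ?_ ((EtCoh.pullPushAdj g').homEquiv_unit _ _ _)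
    refine ((Equiv.eq_symm_apply _).1 ?_).symm
    rw [χK, Adjunction.homEquiv_counit]
    exact ((EtCoh.pullPushAdj g').homEquiv_counit _ _ _).symm
  have hn := (sqIso f g f' g' w).hom.naturality ((χK g' M).f n)
  rw [hχ, Functor.map_comp, Category.assoc]
  refine (congrArg (fun z => (EtCoh.push f).map ((EtCoh.pullPushAdj g').unit.app _) ≫ z) hn).trans ?_
  simp [sqIso]
  rfl

/-- The base change morphism as the homology of a map of complexes, for the chosen resolutions. -/
theorem bcQ_eq_chosen (q : ℕ) :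
    EtBC.bcQ f g f' g' w q M =
      (EtCoh.pull g).map ((injectiveResolution M).isoRightDerivedObj (EtCoh.push f) q).hom ≫
        ((((cx (EtCoh.push f)).obj (injectiveResolution M).cocomplex).sc q).mapHomologyIso (EtCoh.pull g)).inv ≫
        homologyMap (ψ f g f' g' w _ _ (χK g' M)) q ≫
        ((injectiveResolution ((EtCoh.pull g').obj M)).isoRightDerivedObj (EtCoh.push f') q).inv := by
  rw [← symm_ψK]
  refine (congrArg ((EtCoh.pullPushAdj g).homEquiv _ _).symm (bcQAdj_eq f g f' g' w M q)).trans ?_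
  erw [Adjunction.homEquiv_naturality_left_symm]
  refine congrArg (fun z => (EtCoh.pull g).map ((injectiveResolution M).isoRightDerivedObj (EtCoh.push f) q).hom ≫ z) ?_
  rw [← Category.assoc]
  erw [Adjunction.homEquiv_naturality_right_symm, transpose_homology (EtCoh.pull g) (EtCoh.push g) (EtCoh.pullPushAdj g)]
  exact Category.assoc _ _ _

/-- The base change morphism as the homology of a map of complexes. -/
theorem bcQ_eq (I : InjectiveResolution M) (J : InjectiveResolution ((EtCoh.pull g').obj M))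
    (χ : (cx (EtCoh.pull g')).obj I.cocomplex ⟶ J.cocomplex)
    (hχ : (EtCoh.pull g').map (I.ι.f 0) ≫ χ.f 0 = J.ι.f 0) (q : ℕ) :
    EtBC.bcQ f g f' g' w q M =
      (EtCoh.pull g).map (I.isoRightDerivedObj (EtCoh.push f) q).hom ≫
        ((((cx (EtCoh.push f)).obj I.cocomplex).sc q).mapHomologyIso (EtCoh.pull g)).inv ≫
        homologyMap (ψ f g f' g' w _ _ χ) q ≫ (J.isoRightDerivedObj (EtCoh.push f') q).inv := by
  let I₀ := injectiveResolution M
  let J₀ := injectiveResolution ((EtCoh.pull g').obj M)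
  let a := InjectiveResolution.desc (𝟙 M) I₀ I
  let b := InjectiveResolution.desc (𝟙 ((EtCoh.pull g').obj M)) J₀ J
  have ha : I.ι.f 0 ≫ a.f 0 = 𝟙 M ≫ I₀.ι.f 0 := InjectiveResolution.desc_commutes_zero _ _ _
  have hb : J.ι.f 0 ≫ b.f 0 = 𝟙 _ ≫ J₀.ι.f 0 := InjectiveResolution.desc_commutes_zero _ _ _
  have hIa : (I.isoRightDerivedObj (EtCoh.push f) q).hom ≫ homologyMap ((cx (EtCoh.push f)).map a) q =
      (I₀.isoRightDerivedObj (EtCoh.push f) q).hom := by
    have h := InjectiveResolution.isoRightDerivedObj_hom_naturality (𝟙 M) I I₀ a ha (EtCoh.push f) q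
    rw [CategoryTheory.Functor.map_id, Category.id_comp] at h
    exact h.symm
  have hJb : homologyMap ((cx (EtCoh.push f')).map b) q ≫ (J₀.isoRightDerivedObj (EtCoh.push f') q).inv =
      (J.isoRightDerivedObj (EtCoh.push f') q).inv := by
    have h := InjectiveResolution.isoRightDerivedObj_inv_naturality (𝟙 _) J J₀ b hb (EtCoh.push f') q
    rw [CategoryTheory.Functor.map_id, Category.comp_id] at h
    exact h.symm
  let K := (cx (EtCoh.pull g')).obj I.cocomplex
  let ιK : (CochainComplex.single₀ _).obj ((EtCoh.pull g').obj M) ⟶ K := RDer.mapAug (EtCoh.pull g') I.ι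
  haveI : _root_.QuasiIso ιK := by
    show _root_.QuasiIso ((singleMapHomologicalComplex (EtCoh.pull g') (ComplexShape.up ℕ) 0).inv.app M ≫
      (cx (EtCoh.pull g')).map I.ι)
    infer_instance
  have hι : ιK.f 0 = (EtCoh.pull g').map (I.ι.f 0) := mapAug_f_zero _ _
  obtain ⟨hom⟩ := nonempty_homotopy K ιK J₀.cocomplex ((cx (EtCoh.pull g')).map a ≫ χK g' M) (χ ≫ b) (by
    rw [hι, comp_f, comp_f, reassoc_of% hχ, hb, Category.id_comp, Functor.mapHomologicalComplex_map_f]
    rw [← Functor.map_comp_assoc, ha, Category.id_comp]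
    exact ι_χK g' M)
  have hψ : homologyMap ((cx (EtCoh.pull g)).map ((cx (EtCoh.push f)).map a)) q ≫
      homologyMap (ψ f g f' g' w _ _ (χK g' M)) q =
      homologyMap (ψ f g f' g' w _ _ χ) q ≫ homologyMap ((cx (EtCoh.push f')).map b) q := by
    have hn := (NatTrans.mapHomologicalComplex (bc0N f g f' g' w) (ComplexShape.up ℕ)).naturality a
    rw [← homologyMap_comp, ← homologyMap_comp, ψ, ψ, Category.assoc, ← Functor.map_comp]
    erw [reassoc_of% hn]
    refine (homologyMap_comp _ _ _).trans (Eq.trans (congrArg (fun z => _ ≫ z) ?_) (homologyMap_comp _ _ _).symm)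
    exact (congrArg (fun z => homologyMap z q) ((cx (EtCoh.push f')).map_comp _ _).symm).trans
      ((Functor.mapHomotopy (EtCoh.push f') hom).homologyMap_eq q)
  rw [bcQ_eq_chosen, ← hIa, ← hJb, Functor.map_comp, Category.assoc]
  refine congrArg (fun z => (EtCoh.pull g).map (I.isoRightDerivedObj (EtCoh.push f) q).hom ≫ z) ?_
  erw [reassoc_of% (ShortComplex.mapHomologyIso_inv_naturality
    ((HomologicalComplex.shortComplexFunctor _ (ComplexShape.up ℕ) q).map ((cx (EtCoh.push f)).map a)) (EtCoh.pull g))]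
  refine congrArg (fun z => ((((cx (EtCoh.push f)).obj I.cocomplex).sc q).mapHomologyIso (EtCoh.pull g)).inv ≫ z) ?_
  exact (Category.assoc _ _ _).symm.trans ((congrArg (fun z => z ≫ (J₀.isoRightDerivedObj (EtCoh.push f') q).inv) hψ).trans
    (Category.assoc _ _ _))

/-- The base change morphism is an isomorphism exactly when the map of complexes is one in degree `q`. -/
theorem isIso_bcQ_iff (I : InjectiveResolution M) (J : InjectiveResolution ((EtCoh.pull g').obj M))
    (χ : (cx (EtCoh.pull g')).obj I.cocomplex ⟶ J.cocomplex)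
    (hχ : (EtCoh.pull g').map (I.ι.f 0) ≫ χ.f 0 = J.ι.f 0) (q : ℕ) :
    IsIso (EtBC.bcQ f g f' g' w q M) ↔ IsIso (homologyMap (ψ f g f' g' w _ _ χ) q) := by
  rw [bcQ_eq f g f' g' w M I J χ hχ q, isIso_comp_left_iff, isIso_comp_left_iff, isIso_comp_right_iff]

end Groth.Agent.EtBCQ24
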