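import Groth.Prelude.Def_RDer
import Groth.Agent.Lib.KInj.DerivedAdj

/-!
# Transposition and homology
-/

set_option autoImplicit false
set_option linter.style.haveILetI false
set_option backward.isDefEq.respectTransparency false
set_option backward.isDefEq.respectTransparency.types false

universe v v' u u'

open CategoryTheory CategoryTheory.Limits HomologicalComplex

namespace Groth.Agent.EtBCQ24

variable {A : Type u} [Category.{v} A] [Abelian A] {B : Type u'} [Category.{v'} B] [Abelian B]
  (L : A ⥤ B) [L.Additive] [PreservesFiniteLimits L] [PreservesFiniteColimits L]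

/-- The comparison of homology for an exact functor, on homology classes. -/
lemma mapHomologyIso_inv_π (C : CochainComplex A ℕ) (q : ℕ) :
    L.map (C.homologyπ q) ≫ ((C.sc q).mapHomologyIso L).inv =
      ((C.sc q).mapCyclesIso L).inv ≫ ((L.mapHomologicalComplex (ComplexShape.up ℕ)).obj C).homologyπ q := by
  rw [Iso.comp_inv_eq, Category.assoc, Iso.eq_inv_comp]
  rw [(C.sc q).leftHomologyData.mapHomologyIso_eq L, (C.sc q).leftHomologyData.mapCyclesIso_eq L]
  simp only [Iso.trans_hom, Functor.mapIso_hom, Iso.symm_hom, Category.assoc]
  erw [ShortComplex.LeftHomologyData.homologyπ_comp_homologyIso_hom_assoc]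
  rw [← Functor.map_comp]
  refine congrArg _ ?_
  refine congrArg (fun z => L.map z) ?_ |>.trans (L.map_comp _ _)
  exact ((C.sc q).leftHomologyData.π_comp_homologyIso_inv).symm

variable (R : B ⥤ A) [R.Additive] [PreservesFiniteLimits R] (adj : L ⊣ R)

/-- The transpose of a map on homology is the map on homology of the transpose. -/
theorem transpose_homology (C : CochainComplex A ℕ) (K : CochainComplex B ℕ)
    (a : C ⟶ (R.mapHomologicalComplex (ComplexShape.up ℕ)).obj K) (q : ℕ) :
    (adj.homEquiv _ _).symm (homologyMap a q ≫ RDer.homologyComparison R K q) =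
      ((C.sc q).mapHomologyIso L).inv ≫
        homologyMap (((KInjLib.adjComplexes adj (ComplexShape.up ℕ)).homEquiv C K).symm a) q := by
  rw [← cancel_epi (L.map (C.homologyπ q)), ← Category.assoc, mapHomologyIso_inv_π, Category.assoc,
    homologyπ_naturality, ← Adjunction.homEquiv_naturality_left_symm, homologyπ_naturality_assoc,
    RDer.homologyπ_homologyComparison, ← Category.assoc, Adjunction.homEquiv_naturality_right_symm, ← Category.assoc]
  refine congrArg (fun z => z ≫ K.homologyπ q) ?_
  rw [Iso.eq_inv_comp, ← cancel_mono (K.iCycles q), cyclesMap_i, Category.assoc,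
    ← Adjunction.homEquiv_naturality_right_symm]
  rw [Category.assoc (cyclesMap a q), RDer.cyclesComparison_i, cyclesMap_i]
  rw [Adjunction.homEquiv_counit, Adjunction.homEquiv_counit, L.map_comp]
  refine ((congrArg (fun z => _ ≫ z) (Category.assoc _ _ _)).trans (Category.assoc _ _ _).symm).trans ?_
  refine congrArg (fun z => z ≫ L.map (a.f q) ≫ adj.counit.app (K.X q)) ?_
  exact ShortComplex.mapCyclesIso_hom_iCycles (C.sc q) L

end Groth.Agent.EtBCQ24
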